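import Mathlib
import Cfsg.Prelude.Def_Classification2
import Cfsg.Agent.S2402
import Cfsg.Agent.S2403
import Cfsg.Agent.S2406
import Cfsg.Agent.S2407
import Cfsg.Agent.S2408
import Cfsg.Agent.S2409
import Cfsg.Agent.S1163

/-!
# Two-generation of simple groups of Lie type, up to isomorphism

The projective special linear groups and the twisted exceptional groups, in the form of the predicates of the
list of known simple groups.
-/

set_option autoImplicit false

namespace Cfsg.Agent.H451.PowellE

open Cfsg Subgroup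

/-- Transport of two-generation along a surjective homomorphism. -/
theorem exists_pair_of_surjective {H G : Type*} [Group H] [Group G] (f : H →* G)
    (hf : Function.Surjective f) (h : ∃ a b : H, closure ({a, b} : Set H) = ⊤) :
    ∃ a b : G, closure ({a, b} : Set G) = ⊤ := by
  obtain ⟨a, b, hab⟩ := h
  refine ⟨f a, f b, ?_⟩
  have h1 := congrArg (Subgroup.map f) hab
  rw [MonoidHom.map_closure, Set.image_pair, ← MonoidHom.range_eq_map, MonoidHom.range_eq_top.mpr hf] at h1
  exact h1

/-- Two-generation modulo the centre. -/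
theorem exists_pair_quotient_center {H : Type*} [Group H]
    {a b : H} (h : closure ({a, b} : Set H) ⊔ center H = ⊤) :
    ∃ c d : H ⧸ center H, closure ({c, d} : Set (H ⧸ center H)) = ⊤ := by
  refine ⟨QuotientGroup.mk' _ a, QuotientGroup.mk' _ b, ?_⟩
  have h1 := congrArg (Subgroup.map (QuotientGroup.mk' (center H))) h
  rw [Subgroup.map_sup, MonoidHom.map_closure, Set.image_pair, QuotientGroup.map_mk'_self, sup_bot_eq,
    ← MonoidHom.range_eq_map, MonoidHom.range_eq_top.mpr (QuotientGroup.mk'_surjective _)] at h1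
  exact h1

/-- `PSL_n(q)` is generated by two elements (`n ≥ 2`). -/
theorem psl_model {F : Type*} [Field F] [Fintype F] (n : ℕ) (hn : 2 ≤ n) :
    ∃ a b : Matrix.ProjectiveSpecialLinearGroup (Fin n) F,
      closure ({a, b} : Set (Matrix.ProjectiveSpecialLinearGroup (Fin n) F)) = ⊤ := by
  obtain ⟨n, rfl⟩ : ∃ m, n = m + 1 := ⟨n - 1, by omega⟩
  have hn1 : 1 ≤ n := by omega
  have hne : (0 : Fin (n + 1)) ≠ 1 := by
    intro h
    have h1 := congrArg Fin.val h
    have h2 : ((1 : Fin (n + 1)) : ℕ) = 1 := by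
      rw [Fin.val_one']
      exact Nat.mod_eq_of_lt (by omega)
    rw [h2] at h1
    simp at h1
  -- the transvection
  obtain ⟨x, hx⟩ : ∃ x : Matrix.SpecialLinearGroup (Fin (n + 1)) F,
      (x : Matrix (Fin (n + 1)) (Fin (n + 1)) F) = Matrix.transvection 0 1 1 :=
    ⟨⟨Matrix.transvection 0 1 1, Matrix.det_transvection_of_ne _ _ hne _⟩, rfl⟩
  -- the monomial matrix
  obtain ⟨w, hw⟩ : ∃ w : Matrix.SpecialLinearGroup (Fin (n + 1)) F,
      (w : Matrix (Fin (n + 1)) (Fin (n + 1)) F) =
        Matrix.of (fun i j => if j.val = i.val + 1 then 1 else if i.val = n ∧ j.val = 0 then (-1) ^ n else 0) := by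
    refine ⟨⟨Matrix.of (fun i j => if j.val = i.val + 1 then 1 else
      if i.val = n ∧ j.val = 0 then (-1) ^ n else 0), ?_⟩, rfl⟩
    rw [Matrix.det_succ_column_zero]
    rw [Finset.sum_eq_single (Fin.last n)]
    · have h1 : (Matrix.of (fun i j : Fin (n + 1) => if j.val = i.val + 1 then (1 : F) else
          if i.val = n ∧ j.val = 0 then (-1) ^ n else 0)).submatrix (Fin.last n).succAbove Fin.succ = 1 := by
        ext i j
        simp only [Matrix.submatrix_apply, Matrix.of_apply, Fin.succAbove_last, Fin.val_castSucc,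
          Fin.val_succ, Matrix.one_apply]
        by_cases hij : i = j
        · subst hij; simp
        · have h2 : ¬ (j.val = i.val) := fun h => hij (Fin.ext (by omega))
          simp [hij, h2]
      rw [h1, Matrix.det_one]
      simp only [Matrix.of_apply, Fin.val_last, Fin.val_zero]
      rw [if_neg (by omega), if_pos (by simp), ← pow_add, mul_one]
      exact Even.neg_one_pow ⟨n, rfl⟩
    · intro i _ hi
      simp only [Matrix.of_apply, Fin.val_zero]
      rw [if_neg (by omega), if_neg]
      · ring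
      · rintro ⟨h, -⟩
        exact hi (Fin.ext (by rw [h, Fin.val_last]))
    · intro h
      exact absurd (Finset.mem_univ _) h
  by_cases hK : 3 < Fintype.card F
  · obtain ⟨k, hk⟩ := IsCyclic.exists_generator (α := Fˣ)
    obtain ⟨h, hh⟩ : ∃ h : Matrix.SpecialLinearGroup (Fin (n + 1)) F,
        (h : Matrix (Fin (n + 1)) (Fin (n + 1)) F) =
      Matrix.diagonal (fun i => if i.val = 0 then (k : F) else if i.val = 1 then ((k⁻¹ : Fˣ) : F) else 1) := by
      refine ⟨⟨Matrix.diagonal (fun i => if i.val = 0 then (k : F) else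
        if i.val = 1 then ((k⁻¹ : Fˣ) : F) else 1), ?_⟩, rfl⟩
      rw [Matrix.det_diagonal]
      obtain ⟨n, rfl⟩ : ∃ m, n = m + 1 := ⟨n - 1, by omega⟩
      rw [Fin.prod_univ_succ, Fin.prod_univ_succ]
      simp
    exact exists_pair_quotient_center (S2402.result hK n hn1 k hk h x w hh hx hw)
  · exact exists_pair_quotient_center (S2403.result (by omega) n hn1 x w hx hw)

theorem psl {G : Type*} [Group G] (h : IsPSL G) : ∃ a b : G, closure ({a, b} : Set G) = ⊤ := by
  obtain ⟨F, _, _, n, hn, -, ⟨e⟩⟩ := h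
  exact exists_pair_of_surjective e.symm.toMonoidHom e.symm.surjective (psl_model n hn)

theorem twistedE6 {G : Type*} [Group G] (h : Lie.Iso2E6 G) : ∃ a b : G, closure ({a, b} : Set G) = ⊤ := by
  obtain ⟨K, _, _, q, hq, hK, ⟨e⟩⟩ := h
  exact exists_pair_of_surjective e.symm.toMonoidHom e.symm.surjective (S2406.result hq hK)

theorem twistedD4 {G : Type*} [Group G] (h : Lie.Iso3D4 G) : ∃ a b : G, closure ({a, b} : Set G) = ⊤ := by
  obtain ⟨K, _, _, q, hq, hK, ⟨e⟩⟩ := h
  exact exists_pair_of_surjective e.symm.toMonoidHom e.symm.surjective (S2407.result hq hK)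

theorem twistedF4 {G : Type*} [Group G] (h : Lie.Iso2F4 G) : ∃ a b : G, closure ({a, b} : Set G) = ⊤ := by
  obtain ⟨K, _, _, m, hm, hK, ⟨e⟩⟩ := h
  exact exists_pair_of_surjective e.symm.toMonoidHom e.symm.surjective (S2408.result hm hK)

theorem ree {G : Type*} [Group G] (h : Lie.IsoRee G) : ∃ a b : G, closure ({a, b} : Set G) = ⊤ := by
  obtain ⟨K, _, _, m, hm, hK, ⟨e⟩⟩ := h
  exact exists_pair_of_surjective e.symm.toMonoidHom e.symm.surjective (S2409.result hm hK)

/-- The order of a Suzuki group is not divisible by 3. -/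
theorem not_three_dvd_suzuki {G : Type*} [Group G] (h : Lie.IsoSuzuki G) : ¬ 3 ∣ Nat.card G := by
  obtain ⟨F, _, _, m, hm, hF, ⟨e⟩⟩ := h
  rw [Nat.card_congr e.toEquiv, (S1163.result hm hF).1]
  have h1 : 2 ^ (2 * m + 1) % 3 = 2 := by
    rw [pow_succ, pow_mul, Nat.mul_mod, Nat.pow_mod]
    norm_num
  have h0 : 0 < 2 ^ (2 * m + 1) := by positivity
  generalize 2 ^ (2 * m + 1) = q at h1 h0
  intro h3
  have hp : Nat.Prime 3 := Nat.prime_three
  rcases (Nat.Prime.dvd_mul hp).mp h3 with h4 | h4
  · rcases (Nat.Prime.dvd_mul hp).mp h4 with h5 | h5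
    · have := hp.dvd_of_dvd_pow h5
      omega
    · omega
  · have h5 : (q ^ 2 + 1) % 3 = 2 := by
      rw [Nat.add_mod, Nat.pow_mod, h1]
    omega

end Cfsg.Agent.H451.PowellE
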