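import Cfsg.Agent.H509.TwoFrame
import Cfsg.Agent.TypeM.FactsMcL
import Cfsg.Agent.UGT.End.TwoAn
import Cfsg.Agent.Involutions.BaerSuzuki
import Cfsg.Agent.Involutions.DihedralPair

/-!
# S3842, S4094, S4095 at the prime `2`: the inner rows `McL` and `Ly` (helper451)

An element `x` of even order which is central modulo `O_2(D)` in all proper subgroups `D` containing it: with `t` the
involution of `⟨x⟩`, `D = C(t) = 2.A_n`, so `x = t`, and `x² = 1` is impossible (Baer–Suzuki).
-/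

set_option autoImplicit false

namespace Cfsg.Agent.H451.InRow

open Subgroup Cfsg
open Cfsg.Agent.H472.ComRed (cm cm_eq cm_eq' cm_eq_one map_cm)
open Cfsg.Agent.H509.TwoFrame
open Cfsg.Agent.TypeM.Two Cfsg.Agent.SporRec.TwoAn
open Cfsg.Agent.UGT.End.TwoAn
open Cfsg.Agent.Involutions.DihedralPair

universe u

/-- a product of two involutions of `2`-power order generates a `2`-group with them -/
theorem isPGroup_pair {G : Type u} [Group G] {a b : G} (ha : a * a = 1) (hb : b * b = 1) {k : ℕ}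
    (hk : (a * b) ^ 2 ^ k = 1) : IsPGroup 2 (closure {a, b} : Subgroup G) := by
  rintro ⟨y, hy⟩
  obtain ⟨n, rfl | rfl⟩ := mem_closure_pair ha hb hy
  · refine ⟨k, Subtype.ext ?_⟩
    show ((a * b) ^ n) ^ 2 ^ k = 1
    rw [← zpow_natCast, ← zpow_mul, mul_comm, zpow_mul, zpow_natCast, hk, one_zpow]
  · refine ⟨1, Subtype.ext ?_⟩
    show ((a * b) ^ n * a) ^ 2 ^ 1 = 1
    rw [pow_one, sq]
    calc (a * b) ^ n * a * ((a * b) ^ n * a) = (a * b) ^ n * (a * (a * b) ^ n) * a := by group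
      _ = (a * b) ^ n * ((a * b) ^ (-n) * a) * a := by rw [mul_zpow_pair ha hb]
      _ = a * a := by group
      _ = 1 := ha

/-- `x² ≠ 1` (Baer–Suzuki) -/
theorem sq_ne_one {G : Type u} [Group G] [Finite G] {L : Subgroup G} {x : G} (C : Ctx 2 L x) : x * x ≠ 1 := by
  intro hx
  have h2 : Fact (Nat.Prime 2) := ⟨Nat.prime_two⟩
  have hxi : x⁻¹ = x := inv_eq_of_mul_eq_one_left hx
  have key : ∀ g : G, IsPGroup 2 (closure {x, g * x * g⁻¹} : Subgroup G) := by
    intro g
    have hy : g * x * g⁻¹ * (g * x * g⁻¹) = 1 := by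
      calc g * x * g⁻¹ * (g * x * g⁻¹) = g * (x * x) * g⁻¹ := by group
        _ = 1 := by rw [hx]; group
    set y := g * x * g⁻¹ with hyd
    obtain ⟨k, m, hm, he⟩ := Nat.exists_eq_pow_mul_and_not_dvd (orderOf_pos (x * y)).ne' 2 (by norm_num)
    -- the odd part `w`
    set w := (x * y) ^ 2 ^ k with hw
    have hwm : w ^ m = 1 := by rw [hw, ← pow_mul, ← he, pow_orderOf_eq_one]
    have hmo : Odd m := by
      rw [← Nat.not_even_iff_odd, even_iff_two_dvd]; exact hm
    obtain ⟨j, hj⟩ := hmo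
    -- `v = w^(j+1)`, `v² = w`
    have hv : w ^ (j + 1) * w ^ (j + 1) = w := by
      rw [← pow_add, show j + 1 + (j + 1) = (2 * j + 1) + 1 by ring, ← hj, pow_succ, hwm, one_mul]
    have hcm : cm x (w ^ (j + 1)) = w := by
      have h1 : x * (w ^ (j + 1)) = (w ^ (j + 1))⁻¹ * x := by
        have h3 := mul_zpow_pair hx hy (((2 ^ k * (j + 1) : ℕ)) : ℤ)
        rw [zpow_natCast, pow_mul, zpow_neg, zpow_natCast, pow_mul] at h3
        exact h3
      have h2 : x * (w ^ (j + 1))⁻¹ = (w ^ (j + 1)) * x := by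
        calc x * (w ^ (j + 1))⁻¹ = (w ^ (j + 1)) * ((w ^ (j + 1))⁻¹ * x) * (w ^ (j + 1))⁻¹ := by group
          _ = (w ^ (j + 1)) * (x * (w ^ (j + 1))) * (w ^ (j + 1))⁻¹ := by rw [h1]
          _ = _ := by group
      unfold cm
      rw [hxi]
      calc x * (w ^ (j + 1))⁻¹ * x * w ^ (j + 1) = (w ^ (j + 1)) * x * x * w ^ (j + 1) := by rw [h2]
        _ = (w ^ (j + 1)) * (x * x) * w ^ (j + 1) := by group
        _ = w ^ (j + 1) * w ^ (j + 1) := by rw [hx, mul_one]
        _ = w := hv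
    rcases C.bad (w ^ (j + 1)) with h3 | h3
    · rw [hcm] at h3
      exact isPGroup_pair hx hy h3
    · exfalso
      rw [hcm] at h3
      have h4 : orderOf w ∣ m := orderOf_dvd_of_pow_eq_one hwm
      exact hm (h3.trans h4)
  have h3 := Cfsg.Agent.Involutions.BaerSuzuki.baer_suzuki_element x key
  have h4 := C.eq_bot_of_normal (q := 2) (N := normalClosure {x}) normalClosure_normal h3
  apply C.ne
  have h5 : x ∈ normalClosure ({x} : Set G) := subset_normalClosure rfl
  rwa [h4, mem_bot] at h5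

/-- a normal `2`-subgroup of `2.A_n` is contained in the centre -/
theorem two_core {C : Type u} [Group C] [Finite C] {n : ℕ} (hn : 5 ≤ n) (K : Cover (Fin n) C) {y : C} (hy : y ∈ pCore 2 C) :
    y = 1 ∨ y = K.z := by
  have h2 : Fact (Nat.Prime 2) := ⟨Nat.prime_two⟩
  apply Cfsg.Agent.UGT.End.TwoAn.toAlt_eq_one K
  have hs : IsSimpleGroup (alternatingGroup (Fin n)) := alternatingGroup.isSimpleGroup (by simpa using hn)
  have hN : (pCore 2 C).Normal := Cfsg.Agent.Lib.Cores.pCore_normal 2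
  have hP : IsPGroup 2 (pCore 2 C) := Cfsg.Agent.Lib.Cores.pCore_isPGroup 2
  have h1 : ((pCore 2 C).map (Cfsg.Agent.UGT.End.TwoAn.toAlt K)).Normal := hN.map _ (Cfsg.Agent.UGT.End.TwoAn.toAlt_surjective K)
  have h3 : IsPGroup 2 ((pCore 2 C).map (Cfsg.Agent.UGT.End.TwoAn.toAlt K)) := hP.map _
  have h4 : (pCore 2 C).map (Cfsg.Agent.UGT.End.TwoAn.toAlt K) = ⊥ := by
    rcases h1.eq_bot_or_eq_top with h | h
    · exact h
    · exfalso
      rw [h] at h3
      have hc := Equiv.Perm.isThreeCycle_swap_mul_swap_same (a := (⟨0, by omega⟩ : Fin n)) (b := ⟨1, by omega⟩)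
        (c := ⟨2, by omega⟩) (by simp) (by simp) (by simp)
      obtain ⟨k, hk⟩ := h3 ⟨⟨_, hc.mem_alternatingGroup⟩, mem_top _⟩
      have h5 := congrArg (fun s : (⊤ : Subgroup (alternatingGroup (Fin n))) => ((s : alternatingGroup (Fin n)) :
        Equiv.Perm (Fin n))) hk
      have h6 : orderOf (Equiv.swap (⟨0, by omega⟩ : Fin n) ⟨1, by omega⟩ * Equiv.swap ⟨0, by omega⟩ ⟨2, by omega⟩) ∣
          2 ^ k := orderOf_dvd_of_pow_eq_one h5
      rw [hc.orderOf] at h6
      have := (Nat.prime_dvd_prime_iff_eq Nat.prime_three Nat.prime_two).1 (Nat.prime_three.dvd_of_dvd_pow h6)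
      omega
  have h5 : Cfsg.Agent.UGT.End.TwoAn.toAlt K y ∈ (pCore 2 C).map (Cfsg.Agent.UGT.End.TwoAn.toAlt K) := ⟨y, hy, rfl⟩
  rwa [h4, mem_bot] at h5

/-- **the row for the groups with involution centralizer `2.A_n`** -/
theorem inrow_of_mt {S : Type u} [Group S] [Finite S] {n : ℕ} (hn : 5 ≤ n) (L : MT n S) {x : S}
    (C : Ctx 2 (⊤ : Subgroup S) x) (hx : 2 ∣ orderOf x) : False := by
  have h2 : Fact (Nat.Prime 2) := ⟨Nat.prime_two⟩
  obtain ⟨m, hm⟩ := hx
  have hpos := orderOf_pos x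
  -- the involution
  set t := x ^ m with ht
  have ht2 : t * t = 1 := by
    rw [ht, ← pow_add, show m + m = 2 * m by ring, ← hm, pow_orderOf_eq_one]
  have ht1 : t ≠ 1 := by
    intro h
    have h3 := Nat.le_of_dvd (by omega) (orderOf_dvd_of_pow_eq_one h)
    omega
  obtain ⟨L', hL'⟩ := L.exists_rebase ht2 ht1
  set D := centralizer ({L'.t} : Set S) with hD
  have hxD : x ∈ D := by
    rw [hD, hL', mem_centralizer_singleton_iff]
    exact (Commute.refl x).pow_right m
  have hDt : D ≠ ⊤ := by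
    intro h
    have h3 : L'.t ∈ centralizer ((⊤ : Subgroup S) : Set S) := by
      rw [mem_centralizer_iff]
      intro g _
      have h4 : g ∈ D := by rw [h]; trivial
      exact mem_centralizer_singleton_iff.1 h4
    rw [C.cent, mem_bot] at h3
    exact L'.t_ne h3
  have hind := C.ind D hxD hDt
  set K := L'.K with hK
  have hs : IsSimpleGroup (alternatingGroup (Fin n)) := alternatingGroup.isSimpleGroup (by simpa using hn)
  have hcen : Cfsg.Agent.UGT.End.TwoAn.toAlt K ⟨x, hxD⟩ ∈ center (alternatingGroup (Fin n)) := by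
    rw [mem_center_iff]
    intro a
    obtain ⟨d, rfl⟩ := Cfsg.Agent.UGT.End.TwoAn.toAlt_surjective K a
    obtain ⟨c, hc, hc'⟩ := hind d d.2
    have h1 : c = cm (⟨x, hxD⟩ : D) d := Subtype.ext hc'
    have h3 : Cfsg.Agent.UGT.End.TwoAn.toAlt K c = 1 := by
      rcases two_core hn K hc with h4 | h4
      · rw [h4, map_one]
      · rw [h4]
        have h5 := (K.ker K.z).2 (Or.inr rfl)
        exact Subtype.ext h5
    rw [h1, map_cm] at h3
    exact (cm_eq_one.1 h3).symm
  have hbot : center (alternatingGroup (Fin n)) = ⊥ := by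
    rcases hs.eq_bot_or_eq_top_of_normal (center (alternatingGroup (Fin n))) inferInstance with h | h
    · exact h
    · exfalso
      have hc := Equiv.Perm.isThreeCycle_swap_mul_swap_same (a := (⟨0, by omega⟩ : Fin n)) (b := ⟨1, by omega⟩)
        (c := ⟨2, by omega⟩) (by simp) (by simp) (by simp)
      have hc' := Equiv.Perm.isThreeCycle_swap_mul_swap_same (a := (⟨0, by omega⟩ : Fin n)) (b := ⟨1, by omega⟩)
        (c := ⟨3, by omega⟩) (by simp) (by simp) (by simp)
      have h3 : (⟨_, hc.mem_alternatingGroup⟩ : alternatingGroup (Fin n)) ∈ center (alternatingGroup (Fin n)) := by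
        rw [h]; trivial
      have h4 := congrArg Subtype.val (mem_center_iff.1 h3 ⟨_, hc'.mem_alternatingGroup⟩)
      have h5 := congrArg (fun s : Equiv.Perm (Fin n) => s ⟨1, by omega⟩) h4
      simp [Equiv.swap_apply_def, Fin.ext_iff] at h5
  rw [hbot, mem_bot] at hcen
  have hxt : x * x = 1 := by
    rcases Cfsg.Agent.UGT.End.TwoAn.toAlt_eq_one K hcen with h3 | h3
    · have h4 : x = 1 := congrArg Subtype.val h3
      exact absurd h4 C.ne
    · have h4 : x = L'.t := (congrArg Subtype.val h3).trans L'.hz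
      rw [h4]
      exact L'.t_mul_t
  exact sq_ne_one C hxt

theorem inrow_mcl {S : Type u} [Group S] [Finite S] (h : Cfsg.Spor.IsoMcL S) {x : S} (C : Ctx 2 (⊤ : Subgroup S) x)
    (hx : 2 ∣ orderOf x) : False := by
  obtain ⟨-, -, -, ⟨L⟩⟩ := Cfsg.Agent.TypeM.FactsMcL.facts h
  exact inrow_of_mt (by norm_num) L C hx

theorem inrow_ly {S : Type u} [Group S] [Finite S] (h : Cfsg.Spor.IsoLy S) {x : S} (C : Ctx 2 (⊤ : Subgroup S) x)
    (hx : 2 ∣ orderOf x) : False := by
  obtain ⟨-, -, -, ⟨L⟩⟩ := Cfsg.Agent.TypeM.FactsLy.facts h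
  exact inrow_of_mt (by norm_num) L C hx

end Cfsg.Agent.H451.InRow
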