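import Cfsg.Agent.H451.InRowMT
import Cfsg.Agent.KFacts.ON.Sheet
import Cfsg.Agent.Lib.ComponentSolvable

/-!
# S3842, S4094, S4095 at the prime `2`: the inner row `O'N` (helper451)

`z` an involution, `P = C(v)`, `v² = z`, quasisimple and normal in `C(z)`, `E ≤ P` with `N(E)` transitive on the involutions
of `E`. Every `x ∈ C(z)` which is central modulo `O_2` in all proper subgroups lies in `⟨v⟩`, is not an involution, and has a
conjugate in `C(z)` the square of which is not `z`.
-/

set_option autoImplicit false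

namespace Cfsg.Agent.H451.InRow

open Subgroup Cfsg
open Cfsg.Agent.H472.ComRed (cm cm_eq cm_eq' cm_eq_one map_cm)
open Cfsg.Agent.H509.TwoFrame
open Cfsg.Agent.OddHalf Cfsg.Agent.OddHalf.D8 Cfsg.Agent.OddHalf.D8.Sheet
open Cfsg.Agent.OddHalf.D8.ON.Sheet
open scoped commutatorElement

universe u

/-- an element inducing central automorphisms on a perfect group centralises it -/
theorem cent_of_comm {G : Type u} [Group G] {P : Subgroup G} (hP : ⁅P, P⁆ = P) {x : G}
    (h : ∀ j ∈ P, ∃ c : G, (∀ p ∈ P, c * p = p * c) ∧ c ∈ P ∧ x * j * x⁻¹ = c * j) : ∀ p ∈ P, x * p = p * x := by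
  have h1 : ⁅P, P⁆ ≤ centralizer ({x} : Set G) := by
    rw [Subgroup.commutator_le]
    intro a ha b hb
    rw [mem_centralizer_singleton_iff]
    obtain ⟨c, hc, hcP, hca⟩ := h a ha
    obtain ⟨d, hd, hdP, hdb⟩ := h b hb
    have e1 : x * ⁅a, b⁆ * x⁻¹ = ⁅x * a * x⁻¹, x * b * x⁻¹⁆ := by
      rw [commutatorElement_def, commutatorElement_def]; group
    have e2 : ⁅c * a, d * b⁆ = ⁅a, b⁆ := by
      rw [commutatorElement_def, commutatorElement_def]
      have hca' := hc a ha
      have hcb := hc b hb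
      have hda := hd a ha
      have hdb' := hd b hb
      have hcd := hc d hdP
      have e3 : c * a * (d * b) = (a * b) * (c * d) := by
        calc c * a * (d * b) = (c * a) * d * b := by group
          _ = a * c * d * b := by rw [hca']
          _ = a * (c * d * b) := by group
          _ = a * (c * (d * b)) := by group
          _ = a * (c * (b * d)) := by rw [hdb']
          _ = a * ((c * b) * d) := by group
          _ = a * ((b * c) * d) := by rw [hcb]
          _ = _ := by group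
      have e4 : d * b * (c * a) = (b * a) * (c * d) := by
        calc d * b * (c * a) = (d * b) * c * a := by group
          _ = (b * d) * c * a := by rw [hdb']
          _ = b * (d * c) * a := by group
          _ = b * (c * d) * a := by rw [hcd]
          _ = b * (c * (d * a)) := by group
          _ = b * (c * (a * d)) := by rw [hda]
          _ = b * ((c * a) * d) := by group
          _ = b * ((a * c) * d) := by rw [hca']
          _ = _ := by group
      calc c * a * (d * b) * (c * a)⁻¹ * (d * b)⁻¹ = c * a * (d * b) * (d * b * (c * a))⁻¹ := by group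
        _ = (a * b) * (c * d) * ((b * a) * (c * d))⁻¹ := by rw [e3, e4]
        _ = a * b * a⁻¹ * b⁻¹ := by group
    rw [hca, hdb, e2] at e1
    have e5 : ⁅a, b⁆ * x = x * ⁅a, b⁆ := by
      conv_lhs => rw [← e1]
      group
    first | exact e5.symm | exact e5
  rw [hP] at h1
  intro p hp
  have := mem_centralizer_singleton_iff.1 (h1 hp)
  first | exact this | exact this.symm

/-- **the inner row `O'N`** -/
theorem inrow_on {S : Type u} [Group S] [Finite S] (h : Cfsg.Spor.IsoON S) {x : S}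
    (C : Ctx 2 (⊤ : Subgroup S) x) (hx : 2 ∣ orderOf x) : False := by
  have h2 : Fact (Nat.Prime 2) := ⟨Nat.prime_two⟩
  obtain ⟨z, v, P, E, hS⟩ := Cfsg.Agent.KFacts.ON.Sheet.exists_sheet h
  obtain ⟨D, hDd⟩ : ∃ D : Subgroup S, D = centralizer ({z} : Set S) := ⟨_, rfl⟩
  have hmD : ∀ y, y ∈ D ↔ y * z = z * y := fun y => by rw [hDd, mem_centralizer_singleton_iff]
  have hPD : P ≤ D := fun y hy => (hmD y).2 (hS.basic.cen y hy)
  have hDt : D ≠ ⊤ := by
    intro h
    have h3 : z ∈ centralizer ((⊤ : Subgroup S) : Set S) := by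
      rw [mem_centralizer_iff]
      intro g _
      exact (hmD g).1 (by rw [h]; trivial)
    rw [C.cent, mem_bot] at h3
    exact hS.basic.z1 h3
  -- `P` is normal in `D`
  obtain ⟨m, hm⟩ := hS.basic.der
  have hPn : ∀ d ∈ D, ∀ y ∈ P, d * y * d⁻¹ ∈ P := by
    intro d hd y hy
    have h1 : P.map (MulAut.conj d).toMonoidHom ≤ D := by
      rintro _ ⟨y, hy, rfl⟩
      exact D.mul_mem (D.mul_mem hd (hPD hy)) (D.inv_mem hd)
    have h3 : ⁅P.map (MulAut.conj d).toMonoidHom, P.map (MulAut.conj d).toMonoidHom⁆ =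
        P.map (MulAut.conj d).toMonoidHom := by
      rw [← map_commutator, hS.basic.perf]
    have h4 := TR.dser_of_perfect m h3
    have h5 : P.map (MulAut.conj d).toMonoidHom ≤ P := by
      rw [← h4]
      refine (TR.dser_mono m h1).trans ?_
      rw [hDd]
      exact hm
    exact h5 ⟨y, hy, rfl⟩
  have hvP : v ∈ P := (hS.Pv v).2 rfl
  have hvc : ∀ u ∈ zpowers v, ∀ p ∈ P, u * p = p * u := by
    rintro _ ⟨n, rfl⟩ p hp
    have h1 : Commute p v := (hS.Pv p).1 hp
    exact (h1.zpow_right n).symm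
  have hvP' : ∀ u ∈ zpowers v, u ∈ P := by
    rintro _ ⟨n, rfl⟩
    exact P.zpow_mem hvP n
  -- `O_2(D) ≤ ⟨v⟩`
  have hPZ : ∀ y ∈ core 2 D, y ∈ P → ∀ p ∈ P, y * p = p * y := by
    intro y hy hyP p hp
    have hn : ((core 2 D).subgroupOf P).Normal := by
      refine ⟨fun a ha b => ?_⟩
      rw [mem_subgroupOf] at ha ⊢
      exact core_conj ha (hPD b.2)
    have hpg : IsPGroup 2 ((core 2 D).subgroupOf P) :=
      (core_isPGroup 2 D).comap_of_injective P.subtype P.subtype_injective
    have hsol : Group.IsSolvable ((core 2 D).subgroupOf P) := by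
      have := hpg.isNilpotent
      infer_instance
    have h3 := Cfsg.Agent.Lib.ComponentSolvable.quasisimple_solvable_normal_le_center hS.qs hn hsol
    have h4 : (⟨y, hyP⟩ : P) ∈ center P := h3 (by rw [mem_subgroupOf]; exact hy)
    exact (congrArg Subtype.val (mem_center_iff.1 h4 ⟨p, hp⟩)).symm
  have hR : ∀ r ∈ core 2 D, r ∈ zpowers v := by
    intro r hr
    apply hS.cenP
    apply cent_of_comm hS.basic.perf
    intro j hj
    have hrD : r ∈ D := core_le 2 D hr
    have h1 : r * j * r⁻¹ * j⁻¹ ∈ core 2 D := by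
      have h3 : j * r⁻¹ * j⁻¹ ∈ core 2 D := core_conj ((core 2 D).inv_mem hr) (hPD hj)
      have h4 := (core 2 D).mul_mem hr h3
      have e : r * (j * r⁻¹ * j⁻¹) = r * j * r⁻¹ * j⁻¹ := by group
      rwa [e] at h4
    have h3 : r * j * r⁻¹ * j⁻¹ ∈ P := P.mul_mem (hPn r hrD j hj) (P.inv_mem hj)
    exact ⟨_, hPZ _ h1 h3, h3, by group⟩
  -- an element as `x` in `C(z)` lies in `⟨v⟩`
  have key : ∀ y : S, Ctx 2 (⊤ : Subgroup S) y → y ∈ D → y ∈ zpowers v := by
    intro y Cy hy
    have h1 : ∀ p ∈ P, y⁻¹ * p = p * y⁻¹ := by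
      apply cent_of_comm hS.basic.perf
      intro j hj
      have h3 := hR _ (Cy.ind D hy hDt j⁻¹ (hPD (P.inv_mem hj)))
      refine ⟨_, hvc _ h3, hvP' _ h3, ?_⟩
      unfold cm
      group
    apply hS.cenP
    intro p hp
    have h3 := h1 p hp
    calc y * p = y * (p * y⁻¹) * y := by group
      _ = y * (y⁻¹ * p) * y := by rw [h3]
      _ = p * y := by group
  -- a conjugate of `x` in `C(z)`
  obtain ⟨Sy, hzS, hcS, hZS⟩ := hS.basic.syl
  obtain ⟨n, k, hk, hn⟩ := exists_pow hx
  obtain ⟨g, hg⟩ := C.exists_conj hk hn Sy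
  have hyD : g * x * g⁻¹ ∈ D := by
    set y := g * x * g⁻¹ with hy
    have h1 : y * z * y⁻¹ ∈ Sy := (mem_normalizer_iff.1 hg z).1 hzS
    have h3 : ∀ s ∈ Sy, s * (y * z * y⁻¹) = (y * z * y⁻¹) * s := by
      intro s hs
      have h4 : y⁻¹ * s * y ∈ Sy := by
        have := (mem_normalizer_iff.1 (inv_mem hg) s).1 hs
        rwa [inv_inv] at this
      have h5 := hcS _ h4
      calc s * (y * z * y⁻¹) = y * ((y⁻¹ * s * y) * z) * y⁻¹ := by group
        _ = y * (z * (y⁻¹ * s * y)) * y⁻¹ := by rw [h5]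
        _ = _ := by group
    rcases hZS _ h1 h3 with h4 | h4
    · exfalso
      apply hS.basic.z1
      have e : z = y⁻¹ * (y * z * y⁻¹) * y := by group
      rw [e, h4]; group
    · rw [hmD]
      calc y * z = (y * z * y⁻¹) * y := by group
        _ = z * y := by rw [h4]
  set y := g * x * g⁻¹ with hy
  have Cy : Ctx 2 (⊤ : Subgroup S) y := C.conj g
  obtain ⟨i, hi⟩ := key y Cy hyD
  have hyy : y * y ≠ 1 := sq_ne_one Cy
  have hsq : ∀ u ∈ zpowers v, u * u = 1 ∨ u * u = z := by
    rintro _ ⟨j, rfl⟩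
    have h1 : v ^ j * v ^ j = z ^ j := by
      rw [← hS.vv, (Commute.refl v).mul_zpow]
    show v ^ j * v ^ j = 1 ∨ v ^ j * v ^ j = z
    rw [h1]
    rcases Int.even_or_odd' j with ⟨l, rfl | rfl⟩
    · left
      rw [zpow_mul, zpow_ofNat, sq, hS.basic.zz, one_zpow]
    · right
      rw [zpow_add, zpow_mul, zpow_ofNat, sq, hS.basic.zz, one_zpow, one_mul, zpow_one]
  have hyz : y * y = z := (hsq y ⟨i, hi⟩).resolve_left hyy
  obtain ⟨-, -, e, -, -, heE, he1, hez, -⟩ := hS.rel
  obtain ⟨k', hk1, hk2⟩ := hS.kk e heE he1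
  have hy'y' : k' * y * k'⁻¹ * (k' * y * k'⁻¹) = e := by
    rw [← hk1, ← hyz]; group
  -- `z ∈ k' E k'⁻¹`
  obtain ⟨w, hw, hwz⟩ : ∃ w ∈ E, k' * w * k'⁻¹ = z := by
    have h1 : E.map (MulAut.conj k').toMonoidHom ≤ E := by
      rintro _ ⟨a, ha, rfl⟩
      exact hk2 a ha
    have h3 : E.map (MulAut.conj k').toMonoidHom = E := by
      apply Subgroup.eq_of_le_of_card_ge h1
      exact (Subgroup.card_map_of_injective (MulAut.conj k').injective).ge
    have h4 : z ∈ E.map (MulAut.conj k').toMonoidHom := by rw [h3]; exact hS.zE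
    obtain ⟨w, hw, h5⟩ := h4
    exact ⟨w, hw, h5⟩
  have hy'D : k' * y * k'⁻¹ ∈ D := by
    rw [hmD, ← hwz]
    have h1 : y * w = w * y := hvc y ⟨i, hi⟩ w (hS.EP hw)
    calc k' * y * k'⁻¹ * (k' * w * k'⁻¹) = k' * (y * w) * k'⁻¹ := by group
      _ = k' * (w * y) * k'⁻¹ := by rw [h1]
      _ = _ := by group
  rcases hsq _ (key _ (Cy.conj k') hy'D) with h1 | h1
  · rw [hy'y'] at h1
    exact he1 h1
  · rw [hy'y'] at h1
    exact hez h1

end Cfsg.Agent.H451.InRow
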