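import Cfsg.Agent.H451.InRowON

/-!
# S3842, S4094, S4095 at the prime `2`: the outer row `O'N` (helper451)

`x` induces an automorphism of `L ≅ O'N` centralising `P = C_L(v) = 4.L₃(4)`, so it is induced by an element of `⟨v⟩`.
-/

set_option autoImplicit false

namespace Cfsg.Agent.H451.InRow

open Subgroup Cfsg
open Cfsg.Agent.H472.ComRed (cm cm_eq cm_eq' cm_eq_one map_cm)
open Cfsg.Agent.H509.TwoFrame
open Cfsg.Agent.OddHalf Cfsg.Agent.OddHalf.D8 Cfsg.Agent.OddHalf.D8.Sheet
open Cfsg.Agent.OddHalf.D8.ON.Sheet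
open scoped commutatorElement

universe u

section Sheet

variable {K : Type u} [Group K] [Finite K] {z v : K} {P E : Subgroup K} (hS : SheetON z v P E)

include hS

theorem on_vP : v ∈ P := (hS.Pv v).2 rfl

theorem on_vc : ∀ u ∈ zpowers v, ∀ p ∈ P, u * p = p * u := by
  rintro _ ⟨n, rfl⟩ p hp
  have h1 : Commute p v := (hS.Pv p).1 hp
  exact (h1.zpow_right n).symm

theorem on_vP' : ∀ u ∈ zpowers v, u ∈ P := by
  rintro _ ⟨n, rfl⟩
  exact P.zpow_mem (on_vP hS) n

theorem on_Pn : ∀ d, d * z = z * d → ∀ y ∈ P, d * y * d⁻¹ ∈ P := by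
  obtain ⟨m, hm⟩ := hS.basic.der
  intro d hd y hy
  have hPD : ∀ y ∈ P, y ∈ centralizer ({z} : Set K) := fun y hy => mem_centralizer_singleton_iff.2 (hS.basic.cen y hy)
  have hd' : d ∈ centralizer ({z} : Set K) := mem_centralizer_singleton_iff.2 hd
  have h1 : P.map (MulAut.conj d).toMonoidHom ≤ centralizer ({z} : Set K) := by
    rintro _ ⟨y, hy, rfl⟩
    exact mul_mem (mul_mem hd' (hPD y hy)) (inv_mem hd')
  have h3 : ⁅P.map (MulAut.conj d).toMonoidHom, P.map (MulAut.conj d).toMonoidHom⁆ =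
      P.map (MulAut.conj d).toMonoidHom := by
    rw [← map_commutator, hS.basic.perf]
  have h4 := TR.dser_of_perfect m h3
  have h5 : P.map (MulAut.conj d).toMonoidHom ≤ P := by
    rw [← h4]
    exact (TR.dser_mono m h1).trans hm
  exact h5 ⟨y, hy, rfl⟩

/-- a `2`-subgroup normalised by `C(z)` lies in `⟨v⟩` -/
theorem on_two {R : Subgroup K} (hR : IsPGroup 2 R) (hRD : ∀ r ∈ R, r * z = z * r)
    (hn : ∀ d, d * z = z * d → ∀ r ∈ R, d * r * d⁻¹ ∈ R) : ∀ r ∈ R, r ∈ zpowers v := by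
  have h2 : Fact (Nat.Prime 2) := ⟨Nat.prime_two⟩
  have hPZ : ∀ y ∈ R, y ∈ P → ∀ p ∈ P, y * p = p * y := by
    intro y hy hyP p hp
    have hn : (R.subgroupOf P).Normal := by
      refine ⟨fun a ha b => ?_⟩
      rw [mem_subgroupOf] at ha ⊢
      exact hn _ (hS.basic.cen _ b.2) _ ha
    have hpg : IsPGroup 2 (R.subgroupOf P) := hR.comap_of_injective P.subtype P.subtype_injective
    have hsol : Group.IsSolvable (R.subgroupOf P) := by
      have := hpg.isNilpotent
      infer_instance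
    have h3 := Cfsg.Agent.Lib.ComponentSolvable.quasisimple_solvable_normal_le_center hS.qs hn hsol
    have h4 : (⟨y, hyP⟩ : P) ∈ center P := h3 (by rw [mem_subgroupOf]; exact hy)
    exact (congrArg Subtype.val (mem_center_iff.1 h4 ⟨p, hp⟩)).symm
  intro r hr
  apply hS.cenP
  apply cent_of_comm hS.basic.perf
  intro j hj
  have h1 : r * j * r⁻¹ * j⁻¹ ∈ R := by
    have h3 : j * r⁻¹ * j⁻¹ ∈ R := hn j (hS.basic.cen j hj) _ (R.inv_mem hr)
    have h4 := R.mul_mem hr h3
    have e : r * (j * r⁻¹ * j⁻¹) = r * j * r⁻¹ * j⁻¹ := by group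
    rwa [e] at h4
  have h3 : r * j * r⁻¹ * j⁻¹ ∈ P := P.mul_mem (on_Pn hS r (hRD r hr) j hj) (P.inv_mem hj)
  exact ⟨_, hPZ _ h1 h3, h3, by group⟩

end Sheet

/-- a conjugate of `x` fixes the `2`-central involution `z`, if `Z(S) = ⟨z⟩` -/
theorem exists_conj_cent {G : Type u} [Group G] [Finite G] {L : Subgroup G} {x : G} (C : Ctx 2 L x) (hx : 2 ∣ orderOf x)
    {z : L} (hz1 : z ≠ 1) (Sy : Sylow 2 L) (hz : z ∈ Sy) (hc : ∀ s ∈ Sy, s * z = z * s)
    (hZ : ∀ y ∈ Sy, (∀ s ∈ Sy, s * y = y * s) → y = 1 ∨ y = z) : ∃ g : G, g * x * g⁻¹ * z = z * (g * x * g⁻¹) := by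
  have h2 : Fact (Nat.Prime 2) := ⟨Nat.prime_two⟩
  have hL := C.normal
  obtain ⟨n, k, hk, hn⟩ := exists_pow hx
  obtain ⟨T, hT⟩ := (Sy.isPGroup'.map L.subtype).exists_le_sylow
  obtain ⟨g, hg⟩ := C.exists_conj hk hn T
  refine ⟨g, ?_⟩
  set y := g * x * g⁻¹ with hy
  -- `Sy = T ∩ L`
  have hSy : ∀ s : L, s ∈ Sy ↔ (s : G) ∈ T := by
    have h1 : IsPGroup 2 ((T : Subgroup G).subgroupOf L) := T.isPGroup'.comap_of_injective L.subtype L.subtype_injective
    have h3 : (Sy : Subgroup L) ≤ (T : Subgroup G).subgroupOf L := fun s hs => hT ⟨s, hs, rfl⟩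
    have h4 := Sy.is_maximal' h1 h3
    intro s
    constructor
    · intro hs; exact h3 hs
    · intro hs
      have h5 : s ∈ (T : Subgroup G).subgroupOf L := hs
      rw [h4] at h5
      exact h5
  have hconj : ∀ s : L, s ∈ Sy → (⟨y * s * y⁻¹, hL.conj_mem s s.2 y⟩ : L) ∈ Sy := by
    intro s hs
    rw [hSy] at hs ⊢
    exact (mem_normalizer_iff.1 hg _).1 hs
  have hconj' : ∀ s : L, s ∈ Sy → (⟨y⁻¹ * s * y, by
      have := hL.conj_mem s s.2 y⁻¹
      rwa [inv_inv] at this⟩ : L) ∈ Sy := by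
    intro s hs
    rw [hSy] at hs ⊢
    have := (mem_normalizer_iff.1 (inv_mem hg) (s : G)).1 hs
    rwa [inv_inv] at this
  have h1 := hZ _ (hconj z hz) (by
    intro s hs
    apply Subtype.ext
    show (s : G) * (y * z * y⁻¹) = (y * z * y⁻¹) * s
    have h4 := congrArg Subtype.val (hc _ (hconj' s hs))
    have h5 : (y⁻¹ * s * y) * (z : G) = z * (y⁻¹ * s * y) := h4
    calc (s : G) * (y * z * y⁻¹) = y * ((y⁻¹ * s * y) * z) * y⁻¹ := by group
      _ = y * (z * (y⁻¹ * s * y)) * y⁻¹ := by rw [h5]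
      _ = _ := by group)
  rcases h1 with h3 | h3
  · exfalso
    apply hz1
    have h4 : y * (z : G) * y⁻¹ = 1 := congrArg Subtype.val h3
    apply Subtype.ext
    show (z : G) = 1
    have e : (z : G) = y⁻¹ * (y * z * y⁻¹) * y := by group
    rw [e, h4]; group
  · have h4 : y * (z : G) * y⁻¹ = z := congrArg Subtype.val h3
    calc y * (z : G) = (y * z * y⁻¹) * y := by group
      _ = z * y := by rw [h4]

/-- `x ∈ L` if `L ≅ O'N` -/
theorem mem_of_on {G : Type u} [Group G] [Finite G] {L : Subgroup G} (h : Cfsg.Spor.IsoON L) {x : G} (C : Ctx 2 L x)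
    (hx : 2 ∣ orderOf x) : x ∈ L := by
  have h2 : Fact (Nat.Prime 2) := ⟨Nat.prime_two⟩
  obtain ⟨z, v, P, E, hS⟩ := Cfsg.Agent.KFacts.ON.Sheet.exists_sheet h
  have hL := C.normal
  obtain ⟨Sy, hzS, hcS, hZS⟩ := hS.basic.syl
  obtain ⟨g, hg⟩ := exists_conj_cent C hx hS.basic.z1 Sy hzS hcS hZS
  set y := g * x * g⁻¹ with hy
  have Cy : Ctx 2 L y := C.conj g
  obtain ⟨D, hDd⟩ : ∃ D : Subgroup G, D = centralizer ({(z : G)} : Set G) := ⟨_, rfl⟩
  have hmD : ∀ y, y ∈ D ↔ y * (z : G) = z * y := fun y => by rw [hDd, mem_centralizer_singleton_iff]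
  have hDt : D ≠ ⊤ := by
    intro h
    have h3 : (z : G) ∈ centralizer (L : Set G) := by
      rw [mem_centralizer_iff]
      intro g _
      exact (hmD g).1 (by rw [h]; trivial)
    rw [C.cent, mem_bot] at h3
    exact hS.basic.z1 (Subtype.ext h3)
  have hR : ∀ r : L, (r : G) ∈ core 2 D → r ∈ zpowers v := by
    intro r hr
    refine on_two hS (R := (core 2 D).subgroupOf L) ?_ ?_ ?_ r hr
    · exact (core_isPGroup 2 D).comap_of_injective L.subtype L.subtype_injective
    · intro s hs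
      exact Subtype.ext ((hmD _).1 (core_le 2 D hs))
    · intro d hd s hs
      rw [mem_subgroupOf] at hs ⊢
      exact core_conj hs ((hmD _).2 (congrArg Subtype.val hd))
  -- the automorphism
  let α : MulAut L := MulAut.conjNormal y
  have hα : ∀ l : L, ((α l : L) : G) = y * l * y⁻¹ := fun l => MulAut.conjNormal_apply y l
  have hcent : ∀ p ∈ P, α p = p := by
    -- the argument of `cent_of_comm` for `α⁻¹`
    have hc : ∀ j ∈ P, ∃ c ∈ zpowers v, (y : G)⁻¹ * (j : G) * y = (c : G) * j := by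
      intro j hj
      have hjD : ((j : G))⁻¹ ∈ D := inv_mem ((hmD _).2 (congrArg Subtype.val (hS.basic.cen j hj)))
      have h3 := Cy.ind D ((hmD _).2 hg) hDt _ hjD
      have h4 : cm y ((j : G))⁻¹ = (y⁻¹ * j * y) * (j : G)⁻¹ := by unfold cm; group
      have h5 : (y⁻¹ * j * y) * (j : G)⁻¹ ∈ L := by
        refine L.mul_mem ?_ (L.inv_mem j.2)
        have := hL.conj_mem j j.2 y⁻¹
        rwa [inv_inv] at this
      rw [h4] at h3
      exact ⟨⟨_, h5⟩, hR ⟨_, h5⟩ h3, by show _ = (y⁻¹ * j * y) * (j : G)⁻¹ * j; group⟩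
    have h1 : ⁅P, P⁆ ≤ (MulEquiv.toMonoidHom α⁻¹).eqLocus (MonoidHom.id L) := by
      rw [Subgroup.commutator_le]
      intro a ha b hb
      obtain ⟨c, hcv, hca⟩ := hc a ha
      obtain ⟨d, hdv, hdb⟩ := hc b hb
      have hαi : ∀ l : L, ((α⁻¹ l : L) : G) = y⁻¹ * l * y := by
        intro l
        have h6 : α⁻¹ = MulAut.conjNormal y⁻¹ := (map_inv MulAut.conjNormal y).symm
        rw [h6, MulAut.conjNormal_apply, inv_inv]
      have ha' : α⁻¹ a = c * a := Subtype.ext (by rw [hαi, hca]; rfl)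
      have hb' : α⁻¹ b = d * b := Subtype.ext (by rw [hαi, hdb]; rfl)
      show α⁻¹ ⁅a, b⁆ = ⁅a, b⁆
      rw [map_commutatorElement, ha', hb']
      have hca' := on_vc hS c hcv a ha
      have hcb := on_vc hS c hcv b hb
      have hda := on_vc hS d hdv a ha
      have hdb' := on_vc hS d hdv b hb
      have hcd := on_vc hS c hcv d (on_vP' hS d hdv)
      rw [commutatorElement_def, commutatorElement_def]
      have e3 : c * a * (d * b) = (a * b) * (c * d) := by
        calc c * a * (d * b) = (c * a) * d * b := by group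
          _ = a * c * d * b := by rw [hca']
          _ = a * (c * (d * b)) := by group
          _ = a * (c * (b * d)) := by rw [hdb']
          _ = a * ((c * b) * d) := by group
          _ = a * ((b * c) * d) := by rw [hcb]
          _ = _ := by group
      have e4 : d * b * (c * a) = (b * a) * (c * d) := by
        calc d * b * (c * a) = (d * b) * c * a := by group
          _ = (b * d) * c * a := by rw [hdb']
          _ = b * (d * c) * a := by group
          _ = b * (c * d) * a := by rw [hcd]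
          _ = b * (c * (d * a)) := by group
          _ = b * (c * (a * d)) := by rw [hda]
          _ = b * ((c * a) * d) := by group
          _ = b * ((a * c) * d) := by rw [hca']
          _ = _ := by group
      calc c * a * (d * b) * (c * a)⁻¹ * (d * b)⁻¹ = c * a * (d * b) * (d * b * (c * a))⁻¹ := by group
        _ = (a * b) * (c * d) * ((b * a) * (c * d))⁻¹ := by rw [e3, e4]
        _ = a * b * a⁻¹ * b⁻¹ := by group
    rw [hS.basic.perf] at h1
    intro p hp
    have h3 : α⁻¹ p = p := h1 hp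
    calc α p = α (α⁻¹ p) := by rw [h3]
      _ = p := MulAut.apply_inv_self _ _ _
  obtain ⟨u, -, hu⟩ := hS.autP α hcent
  have hyL : y ∈ L := by
    have h1 : (u : G)⁻¹ * y ∈ centralizer (L : Set G) := by
      rw [mem_centralizer_iff]
      intro l hl
      have h3 : y * l * y⁻¹ = u * l * (u : G)⁻¹ := by
        have h4 := congrArg (fun β : MulAut L => ((β ⟨l, hl⟩ : L) : G)) hu
        exact (hα ⟨l, hl⟩).symm.trans h4
      calc l * ((u : G)⁻¹ * y) = (u : G)⁻¹ * (u * l * (u : G)⁻¹) * y := by group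
        _ = (u : G)⁻¹ * (y * l * y⁻¹) * y := by rw [h3]
        _ = (u : G)⁻¹ * y * l := by group
    rw [C.cent, mem_bot] at h1
    have h3 : y = u := by
      calc y = u * ((u : G)⁻¹ * y) := by group
        _ = u := by rw [h1, mul_one]
    rw [h3]
    exact u.2
  have h1 := hL.conj_mem y hyL g⁻¹
  have e : g⁻¹ * y * g⁻¹⁻¹ = x := by rw [hy]; group
  rwa [e] at h1

/-- **the outer row `O'N`** -/
theorem outrow_on {G : Type u} [Group G] [Finite G] {L : Subgroup G} (h : Cfsg.Spor.IsoON L) {x : G} (C : Ctx 2 L x)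
    (hx : x ∉ L) (h2 : 2 ∣ orderOf x) : False := hx (mem_of_on h C h2)

end Cfsg.Agent.H451.InRow
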