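import Mathlib
import Cfsg.Prelude.Def_Solvable
import Cfsg.Prelude.Def_PLocal
import Cfsg.Agent.Lib.Cores
import Cfsg.Agent.Lib.HallHigman
import Cfsg.Agent.Lib.PSolvable
import Cfsg.Agent.Lib.CoprimeHyperplane
import Cfsg.Agent.PLocal.ConjFunctor
import Cfsg.Agent.SignalizersComponents.CoreOfCentralizer
import Cfsg.Agent.Classification.FlavellA
import Cfsg.Agent.Classification.FlavellB
import Cfsg.Agent.S0627
import Cfsg.Agent.S0636

/-!
# Powell's theorem (S3792), primes `p ≥ 5` and cyclic Sylow subgroups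

`G` is a finite simple group all of whose proper subgroups are `p`-soluble and which is not generated by
three elements. The arguments of the two-generator theorem (`FlavellA`, `FlavellB`) are adapted from soluble
to `p`-soluble proper subgroups.
-/

set_option autoImplicit false

namespace Cfsg.Agent.H451.PowellA

open Cfsg Subgroup Cfsg.Agent.Lib Cfsg.Agent.Classification
open Cfsg.Agent.Classification.FlavellB (core core_def core_le core_coprime le_normalizer_core le_core
  Wf Wf_le Wf_ne_bot map_Wf core_eq_bot_iff exists_central isPGroup_zpowers_of_mem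
  isPGroup_zpowers_of_orderOf le_centralizer_of_disjoint centralizer_ne_top normalizer_ne_top
  centralizer_le_M le_M_of_inf_ne_bot ne_top_of_isPGroup)
open scoped Pointwise

universe u

variable {G : Type u} [Group G]

/-- In a finite `p`-soluble group `G`, a `p'`-subgroup `H` which centralises a `p`-subgroup `P` and is normalised
by `C_G(P)` lies in `O_{p'}(G)`. -/
theorem le_pPrimeCore_of_centralizer_normalizes [Finite G] {p : ℕ} [Fact p.Prime]
    (hsolv : IsPSolvable p G)
    (P : Subgroup G) (hP : IsPGroup p P) (H : Subgroup G) (hH : (Nat.card H).Coprime p)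
    (hHP : H ≤ Subgroup.centralizer (P : Set G))
    (hn : Subgroup.centralizer (P : Set G) ≤ Subgroup.normalizer (H : Set G)) :
    H ≤ pPrimeCore p G := by
  have hp : p.Prime := Fact.out
  have hN : (pPrimeCore p G).Normal := pPrimeCore_normal p G
  have hNp : ¬ p ∣ Nat.card (pPrimeCore p G) :=
    (hp.coprime_iff_not_dvd).mp (Lib.Cores.pPrimeCore_coprime p).symm
  let f : G →* G ⧸ pPrimeCore p G := QuotientGroup.mk' (pPrimeCore p G)
  have hf : Function.Surjective f := QuotientGroup.mk'_surjective _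
  have hsolv' : IsPSolvable p (G ⧸ pPrimeCore p G) := PSolvable.IsPSolvable_of_surjective p hsolv f hf
  have hcore : pPrimeCore p (G ⧸ pPrimeCore p G) = ⊥ := Lib.Cores.pPrimeCore_quotient_pPrimeCore p
  have hself := PSolvable.centralizer_pCore_le_of_pSolvable p hsolv' hcore
  have hbot : H.map f = ⊥ := by
    refine SignalizersComponents.CoreOfCentralizer.eq_bot_of_centralizer_pCore_le hself (P.map f)
      (hP.map f) (H.map f) ?_ ?_ ?_
    · exact Nat.Coprime.coprime_dvd_left (Subgroup.card_dvd_of_surjective (f.subgroupMap H)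
        (f.subgroupMap_surjective H)) hH
    · rintro _ ⟨h, hh, rfl⟩
      rw [Subgroup.mem_centralizer_iff]
      rintro _ ⟨a, ha, rfl⟩
      rw [← map_mul, ← map_mul, Subgroup.mem_centralizer_iff.mp (hHP hh) a ha]
    · rintro c ⟨hc, -⟩
      obtain ⟨g, hg, hgc⟩ := SignalizersComponents.CoreOfCentralizer.exists_centralizing_of_quotient
        P hP (pPrimeCore p G) hNp c
        (fun a ha => Subgroup.mem_centralizer_iff.mp hc (f a) ⟨a, ha, rfl⟩)
      have hgn : g ∈ Subgroup.normalizer (H : Set G) := by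
        apply hn
        rw [Subgroup.mem_centralizer_iff]
        exact hg
      rw [← hgc]
      have h1 : f g ∈ (Subgroup.normalizer (H : Set G)).map f := ⟨g, hgn, rfl⟩
      exact Subgroup.le_normalizer_map f h1
  intro h hh
  have h1 : f h ∈ H.map f := ⟨h, hh, rfl⟩
  rw [hbot, Subgroup.mem_bot] at h1
  exact (QuotientGroup.eq_one_iff h).mp h1

/-- The same for a subgroup `H` of `G`. -/
theorem le_core_of_centralizer [Finite G] {p : ℕ} [Fact p.Prime] {H X W : Subgroup G}
    (hH : IsPSolvable p H) (hX : IsPGroup p X) (hXH : X ≤ H) (hWH : W ≤ H)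
    (hWX : W ≤ Subgroup.centralizer (X : Set G))
    (hn : H ⊓ Subgroup.centralizer (X : Set G) ≤ Subgroup.normalizer (W : Set G))
    (hW : (Nat.card W).Coprime p) : W ≤ core p H := by
  have h := le_pPrimeCore_of_centralizer_normalizes (G := H) hH (X.subgroupOf H)
    (hX.comap_of_injective H.subtype H.subtype_injective) (W.subgroupOf H) ?_ ?_ ?_
  · have := Subgroup.map_mono (f := H.subtype) h
    rwa [Subgroup.subgroupOf_map_subtype, inf_eq_left.mpr hWH] at this
  · rwa [Nat.card_congr (Subgroup.subgroupOfEquivOfLe hWH).toEquiv]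
  · intro w hw
    rw [Subgroup.mem_centralizer_iff]
    intro x hx
    exact Subtype.ext (Subgroup.mem_centralizer_iff.mp (hWX hw) x hx)
  · intro c hc
    have hc' : (c : G) ∈ Subgroup.normalizer (W : Set G) := by
      refine hn (Subgroup.mem_inf.mpr ⟨c.2, Subgroup.mem_centralizer_iff.mpr ?_⟩)
      intro x hx
      exact congrArg Subtype.val (Subgroup.mem_centralizer_iff.mp hc ⟨x, hXH hx⟩ hx)
    rw [Subgroup.mem_normalizer_iff] at hc' ⊢
    intro w
    exact hc' w

variable [Finite G]

/-- Key step: multiplication by an element of a normal `p'`-subgroup of the centralizer of a nontrivial `p`-element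
does not change whether `p` divides the order. -/
theorem dvd_orderOf_mul_iff {p : ℕ} [Fact p.Prime]
    (hsol : ∀ H : Subgroup G, H ≠ ⊤ → IsPSolvable p H)
    (hgen : ∀ x y : G, Subgroup.closure {x, y} ≠ ⊤) (a : G)
    (hap : IsPGroup p (Subgroup.zpowers a)) (D : Subgroup G)
    (hD : D ≤ Subgroup.centralizer {a})
    (hDn : Subgroup.centralizer {a} ≤ Subgroup.normalizer (D : Set G))
    (hDp : (Nat.card D).Coprime p) {d : G} (hd : d ∈ D) (g : G) :
    p ∣ orderOf g ↔ p ∣ orderOf (d * g) := by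
  have hp : p.Prime := Fact.out
  have hcomm : Commute a d := by
    have := Subgroup.mem_centralizer_iff.mp (hD hd) a rfl
    exact this
  have hco : (orderOf a).Coprime (orderOf d) := by
    obtain ⟨n, hn⟩ := IsPGroup.iff_card.mp hap
    rw [Nat.card_zpowers] at hn
    rw [hn]
    apply Nat.Coprime.pow_left
    have h1 : orderOf d ∣ Nat.card D := by
      have := orderOf_dvd_natCard (⟨d, hd⟩ : D)
      rwa [Subgroup.orderOf_mk] at this
    exact (Nat.Coprime.coprime_dvd_left h1 hDp).symm
  set L : Subgroup G := closure ({a * d, g} : Set G) with hLdef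
  obtain ⟨haL, hdL⟩ := FlavellA.mem_closure_left (g := g) hcomm hco
  have hgL : g ∈ L := subset_closure (by simp)
  have hLsol : IsPSolvable p L := hsol L (hgen _ _)
  let a' : L := ⟨a, haL⟩
  have hP : IsPGroup p (zpowers a') := by
    rintro ⟨z, hz⟩
    obtain ⟨n, rfl⟩ := Subgroup.mem_zpowers_iff.mp hz
    obtain ⟨k, hk⟩ := hap ⟨a ^ n, zpow_mem (mem_zpowers a) n⟩
    refine ⟨k, ?_⟩
    apply Subtype.ext
    apply Subtype.ext
    have h1 : (a ^ n) ^ p ^ k = 1 := congrArg Subtype.val hk
    exact h1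
  have hcentr : ∀ c : L, c ∈ Subgroup.centralizer (Subgroup.zpowers a' : Set L) →
      (c : G) ∈ Subgroup.centralizer ({a} : Set G) := by
    intro c hc
    rw [Subgroup.mem_centralizer_iff]
    intro x hx
    rw [Set.mem_singleton_iff.mp hx]
    exact congrArg Subtype.val (Subgroup.mem_centralizer_iff.mp hc a' (mem_zpowers a'))
  have hle : D.subgroupOf L ≤ pPrimeCore p L := by
    apply le_pPrimeCore_of_centralizer_normalizes hLsol
      (zpowers a') hP (D.subgroupOf L)
    · exact Nat.Coprime.coprime_dvd_left (Subgroup.card_comap_dvd_of_injective _ _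
        L.subtype_injective) hDp
    · intro x hx
      rw [Subgroup.mem_centralizer_iff]
      intro c hc
      obtain ⟨n, rfl⟩ := Subgroup.mem_zpowers_iff.mp hc
      have h1 : Commute a' x := Subtype.ext (Subgroup.mem_centralizer_iff.mp (hD hx) a rfl)
      exact (h1.zpow_left n).eq
    · intro c hc
      have h1 := hDn (hcentr c hc)
      rw [Subgroup.mem_normalizer_iff] at h1 ⊢
      intro x
      exact h1 x
  have hVn : (pPrimeCore p L).Normal := Lib.Cores.pPrimeCore_normal p
  have hVc : (Nat.card (pPrimeCore p L)).Coprime p := Lib.Cores.pPrimeCore_coprime p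
  have hdV : (⟨d, hdL⟩ : L) ∈ pPrimeCore p L := hle hd
  have h1 := FlavellA.dvd_orderOf_mk_iff hp (pPrimeCore p L) hVc ⟨g, hgL⟩
  have h2 := FlavellA.dvd_orderOf_mk_iff hp (pPrimeCore p L) hVc (⟨d, hdL⟩ * ⟨g, hgL⟩)
  have h3 : QuotientGroup.mk' (pPrimeCore p L) (⟨d, hdL⟩ * ⟨g, hgL⟩) =
      QuotientGroup.mk' (pPrimeCore p L) ⟨g, hgL⟩ := by
    rw [map_mul]
    have : QuotientGroup.mk' (pPrimeCore p L) ⟨d, hdL⟩ = 1 := (QuotientGroup.eq_one_iff _).mpr hdV
    rw [this, one_mul]
  rw [h3, ← h1] at h2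
  have h4 : orderOf (⟨g, hgL⟩ : L) = orderOf g := Subgroup.orderOf_mk _ _
  have h5 : orderOf ((⟨d, hdL⟩ : L) * ⟨g, hgL⟩) = orderOf (d * g) :=
    Subgroup.orderOf_mk (H := L) (d * g) (L.mul_mem hdL hgL)
  rw [h4, h5] at h2
  exact h2.symm

/-- **Lemma A.** `O_{p'}(C_G(a)) = 1` for every nontrivial `p`-element `a`. -/
theorem lemmaA [IsSimpleGroup G] {p : ℕ} [Fact p.Prime]
    (hsol : ∀ H : Subgroup G, H ≠ ⊤ → IsPSolvable p H)
    (hgen : ∀ x y : G, Subgroup.closure {x, y} ≠ ⊤) (a : G) (ha : a ≠ 1)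
    (hap : IsPGroup p (Subgroup.zpowers a)) (D : Subgroup G)
    (hD : D ≤ Subgroup.centralizer {a})
    (hDn : Subgroup.centralizer {a} ≤ Subgroup.normalizer (D : Set G))
    (hDp : (Nat.card D).Coprime p) : D = ⊥ := by
  have hp : p.Prime := Fact.out
  by_contra hne
  obtain ⟨⟨d, hd⟩, hd1⟩ := (Subgroup.ne_bot_iff_exists_ne_one).mp hne
  have hd1' : d ≠ 1 := fun h => hd1 (Subtype.ext h)
  have hpa : p ∣ orderOf a := by
    obtain ⟨n, hn⟩ := IsPGroup.iff_card.mp hap
    rw [Nat.card_zpowers] at hn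
    rw [hn]
    apply dvd_pow_self
    rintro rfl
    rw [pow_zero, orderOf_eq_one_iff] at hn
    exact ha hn
  -- conjugates
  have key : ∀ x ∈ Subgroup.normalClosure ({d} : Set G), ∀ g : G,
      (p ∣ orderOf g ↔ p ∣ orderOf (x * g)) := by
    intro x hx
    refine Subgroup.closure_induction (p := fun x _ => ∀ g : G,
      (p ∣ orderOf g ↔ p ∣ orderOf (x * g))) ?_ ?_ ?_ ?_ hx
    · intro y hy g
      obtain ⟨z, hz, hzy⟩ := Group.mem_conjugatesOfSet_iff.mp hy
      rw [Set.mem_singleton_iff] at hz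
      subst hz
      obtain ⟨c, hc⟩ := isConj_iff.mp hzy
      have h1 := dvd_orderOf_mul_iff hsol hgen a hap D hD hDn hDp hd (c⁻¹ * g * c)
      have h2 : orderOf (c⁻¹ * g * c) = orderOf g := by
        have := orderOf_injective (MulAut.conj c⁻¹).toMonoidHom (MulAut.conj c⁻¹).injective g
        simpa using this
      have h3 : orderOf (z * (c⁻¹ * g * c)) = orderOf (y * g) := by
        have := orderOf_injective (MulAut.conj c).toMonoidHom (MulAut.conj c).injective
          (z * (c⁻¹ * g * c))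
        rw [← this, ← hc]
        congr 1
        simp only [MulEquiv.coe_toMonoidHom, MulAut.conj_apply]
        group
      rw [h2, h3] at h1
      exact h1
    · intro g; rw [one_mul]
    · intro x y _ _ hx hy g
      rw [mul_assoc, ← hx, ← hy]
    · intro x _ hx g
      rw [hx (x⁻¹ * g), mul_inv_cancel_left]
  have htop : Subgroup.normalClosure ({d} : Set G) = ⊤ := by
    rcases Subgroup.Normal.eq_bot_or_eq_top
      (Subgroup.normalClosure_normal (s := ({d} : Set G))) with h | h
    · exfalso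
      apply hd1'
      have : d ∈ Subgroup.normalClosure ({d} : Set G) :=
        Subgroup.subset_normalClosure (Set.mem_singleton d)
      rwa [h, Subgroup.mem_bot] at this
    · exact h
  have h1 := (key a⁻¹ (htop ▸ Subgroup.mem_top _) a).mp hpa
  rw [inv_mul_cancel, orderOf_one] at h1
  exact hp.one_lt.ne' (Nat.dvd_one.mp h1)

/-- Lemma A': `O_{p'}(N_G(X)) = 1` for all `p`-subgroups `X ≠ 1`. -/
theorem core_normalizer_eq_bot [IsSimpleGroup G] {p : ℕ} [Fact p.Prime]
    (hsol : ∀ H : Subgroup G, H ≠ ⊤ → IsPSolvable p H)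
    (hgen : ∀ x y : G, Subgroup.closure {x, y} ≠ ⊤)
    {X : Subgroup G} (hX : IsPGroup p X) (h : X ≠ ⊥) :
    core p (Subgroup.normalizer (X : Set G)) = ⊥ := by
  obtain ⟨z, hzX, hz1, hz⟩ := exists_central hX h
  set D := core p (Subgroup.normalizer (X : Set G)) with hD
  have hDX : D ≤ Subgroup.centralizer (X : Set G) := by
    apply le_centralizer_of_disjoint (core_le _ _)
    · exact Subgroup.le_normalizer.trans (le_normalizer_core p _)
    · rw [inf_comm]
      exact PLocal.PConstrained.inf_eq_bot_of_isPGroup_of_coprime hX (core_coprime _ _)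
  set H := Subgroup.centralizer ({z} : Set G) with hH
  have hDH : D ≤ H := hDX.trans (Subgroup.centralizer_le (by simpa using hzX))
  have h1 : D ≤ core p H := by
    refine le_core_of_centralizer (hsol H (centralizer_ne_top hgen hz1)) hX hz hDH hDX ?_
      (core_coprime _ _)
    exact inf_le_right.trans ((Subgroup.centralizer_le_normalizer _).trans (le_normalizer_core p _))
  have h2 : core p H = ⊥ := lemmaA hsol hgen z hz1 (isPGroup_zpowers_of_mem hX hzX) _ (core_le _ _)
    (le_normalizer_core _ _) (core_coprime _ _)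
  rw [h2] at h1
  exact le_bot_iff.mp h1

/-- `H = O_{p'}(H) N_H(W(S))` for a `p`-soluble subgroup `H` and `p ≥ 5`. -/
theorem le_core_sup_normalizer {p : ℕ} [Fact p.Prime] (hp5 : 5 ≤ p)
    {K : Subgroup G} (hK : IsPSolvable p K) (S : Sylow p K) :
    K ≤ core p K ⊔ Subgroup.normalizer (Wf p ((S : Subgroup K).map K.subtype) : Set G) := by
  have h1 := S0627.result hp5 hK S
  have h2 := congrArg (Subgroup.map K.subtype) h1
  rw [Subgroup.map_sup, ← MonoidHom.range_eq_map, Subgroup.range_subtype] at h2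
  rw [← map_Wf p K.subtype K.subtype_injective]
  refine h2.ge.trans (sup_le_sup le_rfl ?_)
  exact Subgroup.le_normalizer_map _

/-- Lemma B: the strongly `p`-embedded subgroup. -/
theorem exists_embedded [IsSimpleGroup G] {p : ℕ} [Fact p.Prime]
    (hsol : ∀ H : Subgroup G, H ≠ ⊤ → IsPSolvable p H)
    (hgen : ∀ x y : G, Subgroup.closure {x, y} ≠ ⊤) (hp5 : 5 ≤ p)
    (hdvd : p ∣ Nat.card G) :
    ∃ M : Subgroup G, M ≠ ⊤ ∧ (∃ P : Sylow p G, (P : Subgroup G) ≤ M) ∧
      ∀ X : Subgroup G, X ≤ M → IsPGroup p X → X ≠ ⊥ →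
        Subgroup.normalizer (X : Set G) ≤ M := by
  obtain ⟨P⟩ : Nonempty (Sylow p G) := inferInstance
  have hP1 : (P : Subgroup G) ≠ ⊥ := P.ne_bot_of_dvd_card hdvd
  set M := Subgroup.normalizer (Wf p (P : Subgroup G) : Set G) with hM
  have hZmap : ∀ (Q : Subgroup G) (x : G), (Wf p Q).map (MulAut.conj x).toMonoidHom =
      Wf p (Q.map (MulAut.conj x).toMonoidHom) := fun Q x =>
    map_Wf p _ (MulAut.conj x).injective Q
  have hlocal : ∀ Q : Subgroup G, Q ≤ P → Q ≠ ⊥ → Subgroup.normalizer (Q : Set G) ≤ M := by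
    refine PLocal.ConjFunctor.normalizer_le (p := p) (Wf p) (Wf_le p)
      (fun Q hQ hQ1 => Wf_ne_bot hQ hQ1) hZmap ?_ P
    intro D hD hD1 S
    have h1 := le_core_sup_normalizer hp5 (hsol _ (normalizer_ne_top hgen hD hD1)) S
    rwa [core_normalizer_eq_bot hsol hgen hD hD1, bot_sup_eq] at h1
  have hPM : (P : Subgroup G) ≤ M := by
    intro x hx
    have hx' : x ∈ Subgroup.normalizer ((P : Subgroup G) : Set G) := Subgroup.le_normalizer hx
    rw [hM, Subgroup.mem_normalizer_iff_map_conj_eq]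
    rw [Subgroup.mem_normalizer_iff_map_conj_eq] at hx'
    have := hZmap P x
    change (Wf p (P : Subgroup G)).map (MulAut.conj x : G →* G) = _ at this
    rw [this]
    change Wf p ((P : Subgroup G).map (MulAut.conj x : G →* G)) = _
    rw [hx']
  refine ⟨M, normalizer_ne_top hgen (P.isPGroup'.to_le (Wf_le p _)) (Wf_ne_bot P.isPGroup' hP1),
    ⟨P, hPM⟩, ?_⟩
  intro X hXM hX hX1
  obtain ⟨S, hS⟩ := PLocal.ConjFunctor.exists_sylow_of_le hX hXM
  obtain ⟨T, hT⟩ := PLocal.ConjFunctor.exists_sylow_of_le P.isPGroup' hPM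
  have hT' : (P : Subgroup G) = (T : Subgroup M).map M.subtype :=
    (P.is_maximal' (PLocal.ConjFunctor.isPGroup_map_sylow T) hT).symm
  obtain ⟨x, hxM, hx⟩ := PLocal.ConjFunctor.exists_conj_sylow S T
  have h1 : X.map (MulAut.conj x).toMonoidHom ≤ P := by
    rw [hT', ← hx]
    exact Subgroup.map_mono hS
  have h2 : X.map (MulAut.conj x).toMonoidHom ≠ ⊥ := by
    rwa [Ne, Subgroup.map_eq_bot_iff_of_injective _ (MulAut.conj x).injective]
  have h3 := hlocal _ h1 h2
  intro g hg
  have h4 : (MulAut.conj x) g ∈ M := by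
    apply h3
    have h5 := Subgroup.le_normalizer_map (MulAut.conj x).toMonoidHom (H := X)
    exact h5 ⟨g, hg, rfl⟩
  rw [MulAut.conj_apply] at h4
  have h5 : g = x⁻¹ * (x * g * x⁻¹) * x := by group
  rw [h5]
  exact M.mul_mem (M.mul_mem (M.inv_mem hxM) h4) hxM

section M

variable {p : ℕ} [Fact p.Prime] {M : Subgroup G}
  (hM : ∀ X : Subgroup G, X ≤ M → IsPGroup p X → X ≠ ⊥ → Subgroup.normalizer (X : Set G) ≤ M)

include hM

/-- Lemma F. -/
theorem le_M_of_core_le (hp5 : 5 ≤ p) {H : Subgroup G} (hH : IsPSolvable p H) {a : G}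
    (haH : a ∈ H) (haM : a ∈ M) (ha1 : a ≠ 1) (hap : IsPGroup p (Subgroup.zpowers a))
    (hc : core p H ≤ M) : H ≤ M := by
  obtain ⟨S, hS⟩ := PLocal.ConjFunctor.exists_sylow_of_le hap
    (N := H) (by rwa [Subgroup.zpowers_le])
  set T := (S : Subgroup H).map H.subtype with hT
  have hTp : IsPGroup p T := PLocal.ConjFunctor.isPGroup_map_sylow S
  have haT : a ∈ T := hS (Subgroup.mem_zpowers a)
  have hTM : T ≤ M := by
    apply le_M_of_inf_ne_bot hM hTp
    intro h
    have : a ∈ T ⊓ M := ⟨haT, haM⟩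
    rw [h, Subgroup.mem_bot] at this
    exact ha1 this
  have hT1 : T ≠ ⊥ := by
    intro h
    rw [h, Subgroup.mem_bot] at haT
    exact ha1 haT
  have h1 := le_core_sup_normalizer hp5 hH S
  refine h1.trans (sup_le hc ?_)
  exact hM _ ((Wf_le p T).trans hTM) (hTp.to_le (Wf_le p T)) (Wf_ne_bot hTp hT1)

/-- Lemma C. -/
theorem le_M_of_elemAb (hp5 : 5 ≤ p) {H E : Subgroup G} (hH : IsPSolvable p H)
    (hE : IsElementaryAbelian p E) (hcard : Nat.card E = p ^ 2) (hEM : E ≤ M) (hEH : E ≤ H) :
    H ≤ M := by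
  have hpp : p.Prime := Fact.out
  have hE1 : E ≠ ⊥ := by
    rintro rfl
    rw [Subgroup.card_bot] at hcard
    have := Nat.one_lt_pow (n := 2) (by norm_num) hpp.one_lt
    omega
  have hEp : IsPGroup p E := IsPGroup.of_card hcard
  obtain ⟨a, haE, ha1, -⟩ := exists_central hEp hE1
  refine le_M_of_core_le hM hp5 hH (hEH haE) (hEM haE) ha1 (isPGroup_zpowers_of_mem hEp haE) ?_
  have h1 := CoprimeHyperplane.iSup_centralizer_hyperplane (p := p) (A := E) (Q := core p H)
    hE hE1 ((Nat.Prime.coprime_iff_not_dvd hpp).mp (core_coprime p H).symm)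
    (hEH.trans (le_normalizer_core p H))
  rw [← h1]
  refine iSup_le ?_
  rintro ⟨B, hBE, hB⟩
  have hcB : Nat.card B = p := by
    have h2 := Subgroup.relIndex_mul_relIndex ⊥ B E bot_le hBE
    rw [Subgroup.relIndex_bot_left, Subgroup.relIndex_bot_left, hB, hcard] at h2
    have h3 : Nat.card B * p = p * p := by rw [h2]; ring
    exact Nat.eq_of_mul_eq_mul_right hpp.pos h3
  have hB1 : B ≠ ⊥ := by
    rintro rfl
    rw [Subgroup.card_bot] at hcB
    exact hpp.one_lt.ne hcB
  have hBp : IsPGroup p B := hEp.to_le hBE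
  refine inf_le_right.trans ?_
  refine (Subgroup.centralizer_le_normalizer _).trans (hM B (hBE.trans hEM) hBp hB1)

end M

/-- An elementary abelian group of order `p ^ 2` is generated by two elements. -/
theorem exists_gen_pair {p : ℕ} [Fact p.Prime] {E : Subgroup G}
    (hE : IsElementaryAbelian p E) (hcard : Nat.card E = p ^ 2) :
    ∃ z c : G, E ≤ Subgroup.closure {z, c} ∧ z ∈ E ∧ c ∈ E := by
  have hpp : p.Prime := Fact.out
  have hE1 : E ≠ ⊥ := by
    rintro rfl
    rw [Subgroup.card_bot] at hcard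
    have := Nat.one_lt_pow (n := 2) (by norm_num) hpp.one_lt
    omega
  have hEp : IsPGroup p E := IsPGroup.of_card hcard
  obtain ⟨z, hzE, hz1, -⟩ := exists_central hEp hE1
  have hzo : orderOf z = p := orderOf_eq_prime (hE.2 z hzE) hz1
  have hzE' : Subgroup.zpowers z ≤ E := by rwa [Subgroup.zpowers_le]
  obtain ⟨c, hcE, hc⟩ : ∃ c ∈ E, c ∉ Subgroup.zpowers z := by
    by_contra hcon
    push Not at hcon
    have h1 : Nat.card E ≤ Nat.card (Subgroup.zpowers z) := Subgroup.card_le_of_le hcon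
    rw [Nat.card_zpowers, hzo, hcard] at h1
    have := hpp.one_lt
    nlinarith
  refine ⟨z, c, ?_, hzE, hcE⟩
  set H := Subgroup.closure {z, c} with hH
  have hzH : z ∈ H := Subgroup.subset_closure (by simp)
  have hcH : c ∈ H := Subgroup.subset_closure (by simp)
  have h1 : Nat.card ↥(E ⊓ H) ∣ p ^ 2 := by
    rw [← hcard]
    exact Subgroup.card_dvd_of_le inf_le_left
  obtain ⟨i, hi, hi'⟩ := (Nat.dvd_prime_pow hpp).mp h1
  have h2 : Subgroup.zpowers z < E ⊓ H := by
    refine lt_of_le_of_ne (le_inf hzE' (by rwa [Subgroup.zpowers_le])) ?_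
    intro h
    apply hc
    rw [h]
    exact ⟨hcE, hcH⟩
  have h3 : p < Nat.card ↥(E ⊓ H) := by
    have := PLocal.ConjFunctor.card_lt_card_of_lt h2
    rwa [Nat.card_zpowers, hzo] at this
  have h4 : i = 2 := by
    rw [hi'] at h3
    interval_cases i
    · simp at h3
      have := hpp.one_lt
      omega
    · simp at h3
    · rfl
  have h5 : E ⊓ H = E := by
    apply Subgroup.eq_of_le_of_card_ge inf_le_left
    rw [hi', h4, hcard]
  exact inf_eq_left.mp h5

theorem gen_two {G : Type u} [Group G] (hgen : ∀ x y z : G, Subgroup.closure {x, y, z} ≠ ⊤) :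
    ∀ x y : G, Subgroup.closure {x, y} ≠ ⊤ := by
  intro x y
  have := hgen x y y
  rwa [Set.pair_eq_singleton] at this

/-- Sylow `p`-subgroups are cyclic if `p ≥ 5`. -/
theorem isCyclic_sylow [IsSimpleGroup G] {p : ℕ} [Fact p.Prime]
    (hsol : ∀ H : Subgroup G, H ≠ ⊤ → IsPSolvable p H)
    (hgen : ∀ x y z : G, Subgroup.closure {x, y, z} ≠ ⊤) (hp5 : 5 ≤ p)
    (hdvd : p ∣ Nat.card G) (P : Sylow p G) : IsCyclic P := by
  obtain ⟨M, hMtop, ⟨P₀, hP₀⟩, hM⟩ := exists_embedded hsol (gen_two hgen) hp5 hdvd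
  by_contra hcon
  have hcon' : ¬ IsCyclic (⊤ : Subgroup P) := by
    intro h
    apply hcon
    exact Subgroup.topEquiv.isCyclic.mp h
  obtain ⟨A, -, -, hA1, hA2⟩ := S0636.result (p := p) (by omega) P.isPGroup' (⊤ : Subgroup P) hcon'
  obtain ⟨g, hg⟩ := MulAction.exists_smul_eq G P P₀
  set f : P →* G := ((MulAut.conj g : G ≃* G) : G →* G).comp (P : Subgroup G).subtype with hf
  have hfi : Function.Injective f := (MulAut.conj g).injective.comp (P : Subgroup G).subtype_injective
  set E := A.map f with hEdef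
  have hE : IsElementaryAbelian p E := by
    refine ⟨?_, ?_⟩
    · have := hA1.1
      infer_instance
    · rintro _ ⟨a, ha, rfl⟩
      rw [← map_pow, hA1.2 a ha, map_one]
  have hcard : Nat.card E = p ^ 2 := by
    rw [← hA2]
    exact (Nat.card_congr (A.equivMapOfInjective f hfi).toEquiv).symm
  have hEM : E ≤ M := by
    refine le_trans ?_ hP₀
    rw [← hg]
    rintro _ ⟨a, ha, rfl⟩
    exact ⟨(a : G), a.2, rfl⟩
  obtain ⟨z, c, hEzc, -, -⟩ := exists_gen_pair hE hcard
  apply hMtop
  rw [eq_top_iff]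
  intro y _
  have h1 : E ≤ Subgroup.closure {z, c, y} :=
    hEzc.trans (Subgroup.closure_mono (by
      intro x hx
      simp only [Set.mem_insert_iff, Set.mem_singleton_iff] at hx ⊢
      tauto))
  have h2 := le_M_of_elemAb hM hp5 (hsol _ (hgen z c y)) hE hcard hEM h1
  exact h2 (Subgroup.subset_closure (by simp))

end Cfsg.Agent.H451.PowellA
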