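import Mathlib

/-!
# Quadratic action in characteristic three and commuting conjugates

A ring-theoretic lemma: in a ring of characteristic three let `a` satisfy `a² + a + 1 = 0` (that is
`(a - 1)² = 0`) and let `α, β, γ` be commuting elements of two-power order permuted cyclically by
conjugation with `a`. Then `α = β`.
-/

set_option autoImplicit false

namespace Cfsg.Agent.H451.QuadAB

variable {R : Type*} [Ring R]

theorem cube_add (h3 : (3 : R) = 0) {x y : R} (h : Commute x y) : (x + y) ^ 3 = x ^ 3 + y ^ 3 := by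
  rw [h.add_pow]
  simp only [Finset.sum_range_succ, Finset.range_zero, Finset.sum_empty]
  have h4 : ((Nat.choose 3 1 : ℕ) : R) = 0 := by
    have : (Nat.choose 3 1 : ℕ) = 3 := by decide
    rw [this]; exact_mod_cast h3
  have h5 : ((Nat.choose 3 2 : ℕ) : R) = 0 := by
    have : (Nat.choose 3 2 : ℕ) = 3 := by decide
    rw [this]; exact_mod_cast h3
  rw [h4, h5]
  simp only [mul_zero, add_zero, pow_zero, Nat.sub_zero, one_mul, Nat.choose_zero_right,
    Nat.cast_one, mul_one, Nat.sub_self, Nat.choose_self, zero_add]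
  rw [add_comm]

/-- `(x + y + z)^(3^k)` for commuting elements in characteristic three -/
theorem pow_three_pow (h3 : (3 : R) = 0) {x y z : R} (hxy : Commute x y) (hxz : Commute x z)
    (hyz : Commute y z) (k : ℕ) :
    (x + y + z) ^ (3 ^ k) = x ^ (3 ^ k) + y ^ (3 ^ k) + z ^ (3 ^ k) := by
  induction k with
  | zero => simp
  | succ k ih =>
    rw [pow_succ, pow_mul, ih, cube_add h3, cube_add h3, ← pow_mul, ← pow_mul, ← pow_mul]
    · exact hxy.pow_pow _ _
    · exact ((hxz.pow_pow _ _).add_left (hyz.pow_pow _ _))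

theorem exists_three_pow (m : ℕ) : ∃ k : ℕ, 0 < k ∧ ∃ l, 3 ^ k = 2 ^ m * l + 1 := by
  have hcop : Nat.Coprime 3 (2 ^ m) := Nat.Coprime.pow_right m (by decide)
  refine ⟨(2 ^ m).totient, Nat.totient_pos.mpr (by positivity), ?_⟩
  have h := Nat.ModEq.pow_totient hcop
  have h1 : 1 ≤ 3 ^ (2 ^ m).totient := Nat.one_le_pow _ _ (by norm_num)
  obtain ⟨l, hl⟩ := (Nat.modEq_iff_dvd' h1).mp h.symm
  exact ⟨l, by omega⟩

theorem pow_eq_self {x : R} {m k l : ℕ} (hx : x ^ (2 ^ m) = 1) (h : 3 ^ k = 2 ^ m * l + 1) :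
    x ^ (3 ^ k) = x := by
  rw [h, pow_succ, pow_mul, hx, one_pow, one_mul]

/-- **The lemma.** -/
theorem eq_of_quadratic (h3 : (3 : R) = 0) {a α β γ : R} (hαβ : Commute α β) (hβγ : Commute β γ)
    (hαγ : Commute α γ) (h1 : a * α = β * a) (h2 : a * β = γ * a) (h4 : a * γ = α * a)
    (ha : a * a + a + 1 = 0) {m : ℕ} (hα : α ^ (2 ^ m) = 1) (hβ : β ^ (2 ^ m) = 1)
    (hγ : γ ^ (2 ^ m) = 1) : α = β := by
  have h30 : ∀ x : R, x + x + x = 0 := by
    intro x
    have : x + x + x = 3 * x := by noncomm_ring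
    rw [this, h3, zero_mul]
  have ha2 : a * a = -a - 1 := by
    have : a * a = (a * a + a + 1) - a - 1 := by noncomm_ring
    rw [this, ha]; noncomm_ring
  -- the basic relation `(β - γ) a = γ - α`, for any cyclic rotation
  have basic : ∀ {x y z : R}, a * x = y * a → a * y = z * a → (y - z) * a = z - x := by
    intro x y z hxy hyz
    have e1 : a * a * x = z * (a * a) := by
      rw [mul_assoc, hxy, ← mul_assoc, hyz, mul_assoc]
    rw [ha2] at e1
    have e2 : (-a - 1) * x = -(y * a) - x := by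
      have : (-a - 1) * x = -(a * x) - x := by noncomm_ring
      rw [this, hxy]
    have e3 : z * (-a - 1) = -(z * a) - z := by noncomm_ring
    rw [e2, e3] at e1
    have e4 : (y - z) * a = y * a - z * a := by noncomm_ring
    rw [e4]
    have e5 : y * a - z * a = -(-(y * a) - x) - x - z * a := by noncomm_ring
    rw [e5, e1]; noncomm_ring
  have r1 : (β - γ) * a = γ - α := basic h1 h2
  have r2 : (γ - α) * a = α - β := basic h2 h4
  have r3 : (α - β) * a = β - γ := basic h4 h1
  -- `(α + β + γ)² = 0`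
  have hcomm : (γ - α) * (β - γ) = (β - γ) * (γ - α) := by
    have c1 : Commute (γ - α) (β - γ) :=
      ((hβγ.symm.sub_left hαβ).sub_right ((Commute.refl γ).sub_left hαγ))
    exact c1.eq
  have hsq : (γ - α) * (γ - α) = (β - γ) * (α - β) := by
    calc (γ - α) * (γ - α) = (γ - α) * ((β - γ) * a) := by rw [r1]
      _ = (γ - α) * (β - γ) * a := by rw [mul_assoc]
      _ = (β - γ) * (γ - α) * a := by rw [hcomm]
      _ = (β - γ) * ((γ - α) * a) := by rw [mul_assoc]
      _ = (β - γ) * (α - β) := by rw [r2]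
  have hs2 : (α + β + γ) * (α + β + γ) = 0 := by
    have e1 : β * α = α * β := hαβ.eq.symm
    have e2 : γ * β = β * γ := hβγ.eq.symm
    have e3 : γ * α = α * γ := hαγ.eq.symm
    have e4 : (α + β + γ) * (α + β + γ) = ((γ - α) * (γ - α) - (β - γ) * (α - β)) +
        ((α * β + β * γ + α * γ) + (α * β + β * γ + α * γ) + (α * β + β * γ + α * γ)) := by
      simp only [mul_add, add_mul, mul_sub, sub_mul, e1, e2, e3]
      abel
    rw [e4, hsq, h30]
    simp
  obtain ⟨k, hk, l, hl⟩ := exists_three_pow m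
  have hs : α + β + γ = 0 := by
    have e1 := pow_three_pow h3 hαβ hαγ hβγ k
    rw [pow_eq_self hα hl, pow_eq_self hβ hl, pow_eq_self hγ hl] at e1
    rw [← e1]
    have h2k : 2 ≤ 3 ^ k := by
      calc 2 ≤ 3 ^ 1 := by norm_num
        _ ≤ 3 ^ k := Nat.pow_le_pow_right (by norm_num) hk
    obtain ⟨j, hj⟩ := Nat.exists_eq_add_of_le h2k
    rw [hj, pow_add, pow_two, hs2, zero_mul]
  -- `δ = α - β` satisfies `δ a = δ` and `a δ = δ`
  set δ := α - β with hδ
  have hγ' : γ = -α - β := by
    have : γ = (α + β + γ) - α - β := by abel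
    rw [this, hs]; abel
  have d1 : β - γ = δ := by
    rw [hγ', hδ]
    have e2 : β - (-α - β) = (α - β) + (β + β + β) := by abel
    rw [e2, h30, add_zero]
  have d2 : γ - α = δ := by
    rw [hγ', hδ]
    have e2 : -α - β - α = (α - β) - (α + α + α) := by abel
    rw [e2, h30, sub_zero]
  have hδa : δ * a = δ := by rw [r3, d1]
  have haδ : a * δ = δ := by
    have e1 : a * δ = (β - γ) * a := by
      rw [hδ, mul_sub, h1, h2, sub_mul]
    rw [e1, r1, d2]
  have hδα : δ * α = α * δ := by
    have c1 : Commute δ α := (Commute.refl α).sub_left hαβ.symm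
    exact c1.eq
  have haα : a * α = α * a - δ := by
    rw [h1]
    have : β = α - δ := by rw [hδ]; abel
    rw [this, sub_mul, hδa]
  have hδ2 : δ * δ = 0 := by
    have e1 : δ * (a * α) = δ * α := by rw [← mul_assoc, hδa]
    have e2 : δ * (a * α) = δ * α - δ * δ := by
      rw [haα, mul_sub, ← mul_assoc, hδα, mul_assoc, hδa]
    rw [e1] at e2
    have e3 : δ * δ = δ * α - (δ * α - δ * δ) := by abel
    rw [e3, ← e2, sub_self]
  -- hence `α ^ 3 = β ^ 3`
  have hcube : ∀ j, α ^ (3 ^ (j + 1)) = β ^ (3 ^ (j + 1)) := by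
    intro j
    have e1 : α = δ + β := by rw [hδ]; abel
    have c1 : Commute δ β := (hαβ).sub_left (Commute.refl β)
    have e2 : (δ + β) ^ (3 ^ (j + 1)) = δ ^ (3 ^ (j + 1)) + β ^ (3 ^ (j + 1)) := by
      have := pow_three_pow h3 c1 (Commute.zero_right δ) (Commute.zero_right β) (j + 1)
      rw [add_zero] at this
      rw [this, zero_pow (by positivity), add_zero]
    rw [e1, e2]
    have h2k : 2 ≤ 3 ^ (j + 1) := by
      calc 2 ≤ 3 ^ 1 := by norm_num
        _ ≤ 3 ^ (j + 1) := Nat.pow_le_pow_right (by norm_num) (by omega)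
    obtain ⟨i, hi⟩ := Nat.exists_eq_add_of_le h2k
    rw [hi, pow_add, pow_two, hδ2, zero_mul, zero_add]
  obtain ⟨j, rfl⟩ := Nat.exists_eq_succ_of_ne_zero hk.ne'
  have := hcube j
  rw [Nat.succ_eq_add_one] at hl
  rwa [pow_eq_self hα hl, pow_eq_self hβ hl] at this

end Cfsg.Agent.H451.QuadAB
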