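import Mathlib

/-!
# A `3`-group acting on an elementary abelian `2`-group with an anisotropic condition

Let a finite `3`-group `X` act on a finite elementary abelian `2`-group `Q`, let `A = [X, X]` be
commutative, of exponent dividing three on `Q`, and let `f : Q × Q → ZMod 2` be an alternating
`A`-invariant form with `f (q, a q) = 1` whenever `a ∈ A` and `a q ≠ q`. Then `A` acts trivially.
-/

set_option autoImplicit false

namespace Cfsg.Agent.H451.QuadForm

/-- a `3`-group acting on at most four points: commutators act trivially -/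
theorem commutator_smul {X Ω : Type*} [Group X] [Finite X] [Finite Ω] [MulAction X Ω]
    (hX : IsPGroup 3 X) (hΩ : Nat.card Ω ≤ 4) (g : X) (hg : g ∈ commutator X) (ω : Ω) :
    g • ω = ω := by
  classical
  let ψ : X →* Equiv.Perm Ω := MulAction.toPermHom X Ω
  have hr : IsPGroup 3 ψ.range := hX.of_surjective ψ.rangeRestrict ψ.rangeRestrict_surjective
  obtain ⟨n, hn⟩ := IsPGroup.iff_card.mp hr
  have h1 : Nat.card ψ.range ∣ Nat.card (Equiv.Perm Ω) := Subgroup.card_subgroup_dvd_card _
  have h2 : Nat.card (Equiv.Perm Ω) ∣ 24 := by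
    rw [Nat.card_perm]
    exact Nat.factorial_dvd_factorial hΩ
  have h3 : 3 ^ n ∣ 24 := by rw [← hn]; exact h1.trans h2
  have h4 : n ≤ 1 := by
    by_contra hcon
    have h5 : 3 ^ 2 ∣ 24 := (Nat.pow_dvd_pow 3 (by omega : 2 ≤ n)).trans h3
    norm_num at h5
  have h5 : IsCyclic ψ.range := by
    have : Nat.card ψ.range = 1 ∨ Nat.card ψ.range = 3 := by
      interval_cases n
      · left; simpa using hn
      · right; simpa using hn
    rcases this with h | h
    · have : Subsingleton ψ.range := (Nat.card_eq_one_iff_unique.mp h).1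
      exact isCyclic_of_subsingleton
    · haveI : Fact (Nat.Prime 3) := ⟨by norm_num⟩
      exact isCyclic_of_prime_card h
  have h6 : ∀ a b : ψ.range, a * b = b * a := by
    intro a b
    letI := h5.commGroup
    exact mul_comm a b
  have h7 : commutator X ≤ ψ.ker := by
    rw [commutator_def, Subgroup.commutator_le]
    intro x _ y _
    rw [MonoidHom.mem_ker, map_commutatorElement, commutatorElement_eq_one_iff_mul_comm]
    have := congrArg Subtype.val (h6 ⟨ψ x, x, rfl⟩ ⟨ψ y, y, rfl⟩)
    exact this
  have h8 : ψ g = 1 := h7 hg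
  have := congrArg (fun e : Equiv.Perm Ω => e ω) h8
  exact this

section

variable {Q : Type*} [AddCommGroup Q] {X : Type*} [Group X] [DistribMulAction X Q]

/-- the fixed points of `a` -/
def fix (Q : Type*) [AddCommGroup Q] {X : Type*} [Group X] [DistribMulAction X Q] (a : X) :
    AddSubgroup Q where
  carrier := {q | a • q = q}
  zero_mem' := smul_zero a
  add_mem' := by
    intro x y hx hy
    show a • (x + y) = x + y
    rw [smul_add, show a • x = x from hx, show a • y = y from hy]
  neg_mem' := by
    intro x hx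
    show a • (-x) = -x
    rw [smul_neg, show a • x = x from hx]

theorem mem_fix {a : X} {q : Q} : q ∈ fix Q a ↔ a • q = q := Iff.rfl

theorem eq_zero_of_three (h2 : ∀ q : Q, q + q = 0) {y : Q} (h : y + y + y = 0) : y = 0 := by
  rw [h2, zero_add] at h; exact h

/-- `a y = y` and `y + a y + a² y = 0` give `y = 0` -/
theorem eq_zero_of_orbit (h2 : ∀ q : Q, q + q = 0) {a : X} {y : Q} (hy : a • y = y)
    (h : y + a • y + a • a • y = 0) : y = 0 := by
  rw [hy, hy] at h
  exact eq_zero_of_three h2 h

variable (f : Q → Q → ZMod 2)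

/-- the index of the fixed points is at most four -/
theorem index_fix_le [Finite Q] (h2 : ∀ q : Q, q + q = 0)
    (hfl : ∀ x y z, f (x + y) z = f x z + f y z) (hfr : ∀ x y z, f x (y + z) = f x y + f x z)
    {a : X} (hf1 : ∀ x, a • x ≠ x → f x (a • x) = 1) : (fix Q a).index ≤ 4 := by
  by_cases htop : fix Q a = ⊤
  · rw [htop, AddSubgroup.index_top]; norm_num
  obtain ⟨d, hd⟩ : ∃ d, d ∉ fix Q a := by
    by_contra hcon
    push Not at hcon
    exact htop (eq_top_iff.mpr fun x _ => hcon x)
  let φ : Q →+ ZMod 2 :=
    { toFun := fun e => f d (a • e) + f e (a • d)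
      map_zero' := by
        have e1 : f d 0 = 0 := by
          have := hfr d 0 0
          rw [add_zero] at this
          exact left_eq_add.mp this
        have e2 : f 0 (a • d) = 0 := by
          have := hfl 0 0 (a • d)
          rw [add_zero] at this
          exact left_eq_add.mp this
        rw [smul_zero, e1, e2, add_zero]
      map_add' := by
        intro x y
        rw [smul_add, hfr, hfl]
        ring }
  have hφ : ∀ e, φ e = f d (a • e) + f e (a • d) := fun e => rfl
  have hker : φ.ker ≤ fix Q a ⊔ AddSubgroup.zmultiples d := by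
    intro e he
    rw [AddMonoidHom.mem_ker, hφ] at he
    by_cases h3 : e ∈ fix Q a
    · exact AddSubgroup.mem_sup_left h3
    by_cases h4 : d + e ∈ fix Q a
    · have : e = (d + e) + (-d) := by abel
      rw [this]
      exact AddSubgroup.add_mem_sup h4 (neg_mem (AddSubgroup.mem_zmultiples d))
    · exfalso
      have e1 := hf1 (d + e) h4
      rw [smul_add, hfr, hfl, hfl, hf1 d hd, hf1 e h3] at e1
      have e2 : (1 : ZMod 2) + f e (a • d) + (f d (a • e) + 1) =
          (f d (a • e) + f e (a • d)) + (1 + 1) := by ring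
      rw [e2, he] at e1
      revert e1
      decide
  have i1 : (fix Q a ⊔ AddSubgroup.zmultiples d).index ≤ 2 := by
    have e1 : (fix Q a ⊔ AddSubgroup.zmultiples d).index ∣ φ.ker.index :=
      AddSubgroup.index_dvd_of_le hker
    have e2 : φ.ker.index ≤ 2 := by
      rw [AddSubgroup.index_ker]
      have : Nat.card φ.range ≤ Nat.card (ZMod 2) :=
        Nat.card_le_card_of_injective _ Subtype.val_injective
      rwa [Nat.card_zmod] at this
    have e3 : 0 < φ.ker.index := Nat.pos_of_ne_zero AddSubgroup.index_ne_zero_of_finite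
    exact (Nat.le_of_dvd e3 e1).trans e2
  have i2 : (fix Q a).relIndex (fix Q a ⊔ AddSubgroup.zmultiples d) ≤ 2 := by
    have e1 : (fix Q a).relIndex (fix Q a ⊔ AddSubgroup.zmultiples d) ∣
        Nat.card (AddSubgroup.zmultiples d) := by
      rw [sup_comm, AddSubgroup.relIndex_sup_right]
      exact AddSubgroup.relIndex_dvd_card _ _
    have e2 : Nat.card (AddSubgroup.zmultiples d) ∣ 2 := by
      rw [Nat.card_zmultiples]
      apply addOrderOf_dvd_of_nsmul_eq_zero
      rw [two_nsmul, h2]
    exact (Nat.le_of_dvd (by norm_num) (e1.trans e2))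
  calc (fix Q a).index = (fix Q a).relIndex (fix Q a ⊔ AddSubgroup.zmultiples d) *
        (fix Q a ⊔ AddSubgroup.zmultiples d).index :=
          (AddSubgroup.relIndex_mul_index le_sup_left).symm
    _ ≤ 2 * 2 := Nat.mul_le_mul i2 i1
    _ = 4 := by norm_num

/-- commuting elements have comparable fixed points only if these are equal -/
theorem fix_le_or (h2 : ∀ q : Q, q + q = 0)
    (hfl : ∀ x y z, f (x + y) z = f x z + f y z) (hfr : ∀ x y z, f x (y + z) = f x y + f x z)
    {a b : X} (hab : a * b = b * a) (ha3 : ∀ q : Q, a • a • a • q = q)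
    (hf1 : ∀ x, (a * b) • x ≠ x → f x ((a * b) • x) = 1) :
    fix Q a ≤ fix Q b ∨ fix Q b ≤ fix Q a := by
  by_contra hcon
  push Not at hcon
  obtain ⟨⟨e, hea, heb⟩, ⟨d, hdb, hda⟩⟩ :=
    And.intro (SetLike.not_le_iff_exists.mp hcon.1) (SetLike.not_le_iff_exists.mp hcon.2)
  rw [mem_fix] at hea heb hdb hda
  have hba : ∀ q : Q, b • a • q = a • b • q := fun q => by
    rw [← mul_smul, ← hab, mul_smul]
  -- facts for `u` fixed by `b` and moved by `a`
  have key : ∀ u : Q, b • u = u → a • u ≠ u →
      f u ((a * b) • e) + f e ((a * b) • u) = 1 := by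
    intro u hbu hau
    have s1 : (a * b) • u = a • u := by rw [mul_smul, hbu]
    have s2 : (a * b) • e = b • e := by rw [hab, mul_smul, hea]
    have n1 : (a * b) • u ≠ u := by rw [s1]; exact hau
    have n2 : (a * b) • e ≠ e := by rw [s2]; exact heb
    have n3 : (a * b) • (u + e) ≠ u + e := by
      rw [smul_add, s1, s2]
      intro h
      apply hau
      -- `y = a u - u = e - b e`
      have h1 : a • u - u = e - b • e := by
        rw [sub_eq_sub_iff_add_eq_add, h, add_comm]
      have h3 : a • (a • u - u) = a • u - u := by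
        rw [h1, smul_sub, hea, ← hba, hea]
      have h4 : (a • u - u) + a • (a • u - u) + a • a • (a • u - u) = 0 := by
        simp only [smul_sub, ha3]
        abel
      exact sub_eq_zero.mp (eq_zero_of_orbit h2 h3 h4)
    have e1 := hf1 _ n3
    rw [smul_add, hfr, hfl, hfl, hf1 u n1, hf1 e n2] at e1
    have e2 : (1 : ZMod 2) + f e ((a * b) • u) + (f u ((a * b) • e) + 1) =
        (f u ((a * b) • e) + f e ((a * b) • u)) + (1 + 1) := by ring
    rw [e2] at e1
    have e3 : (1 : ZMod 2) + 1 = 0 := by decide
    rw [e3, add_zero] at e1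
    exact e1
  have k1 := key d hdb hda
  have k2 := key (a • d) (by rw [hba, hdb]) (by
    intro h
    apply hda
    have h1 : a • (a • d) = a • d := h
    calc a • d = a • a • d := h1.symm
      _ = a • a • a • d := by rw [h1, h1]
      _ = d := ha3 d)
  have k3 := key (d + a • d) (by rw [smul_add, hba, hdb]) (by
    intro h
    apply hda
    rw [smul_add] at h
    have h1 : a • a • d = d := by
      have : a • d + a • a • d = a • d + d := by rw [h, add_comm]
      exact add_left_cancel this
    have h3 := ha3 d
    rw [h1] at h3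
    exact h3)
  rw [smul_add, hfr, hfl] at k3
  have e1 : f d ((a * b) • e) + f (a • d) ((a * b) • e) +
      (f e ((a * b) • d) + f e ((a * b) • a • d)) =
      (f d ((a * b) • e) + f e ((a * b) • d)) +
      (f (a • d) ((a * b) • e) + f e ((a * b) • a • d)) := by ring
  rw [e1, k1, k2] at k3
  revert k3
  decide

/-- **Main lemma.** -/
theorem smul_eq_of_form [Finite Q] [Finite X] (h2 : ∀ q : Q, q + q = 0) (hX : IsPGroup 3 X)
    (hcomm : ∀ a ∈ commutator X, ∀ b ∈ commutator X, a * b = b * a)
    (ha3 : ∀ a ∈ commutator X, ∀ q : Q, a • a • a • q = q)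
    (hfl : ∀ x y z, f (x + y) z = f x z + f y z) (hfr : ∀ x y z, f x (y + z) = f x y + f x z)
    (hf1 : ∀ a ∈ commutator X, ∀ x, a • x ≠ x → f x (a • x) = 1) :
    ∀ a ∈ commutator X, ∀ q : Q, a • q = q := by
  intro a ha
  by_contra hcon
  push Not at hcon
  -- `fix a` is `X`-invariant
  have hinv : ∀ (x : X) (q : Q), q ∈ fix Q a → x • q ∈ fix Q a := by
    intro x q hq
    have hb : x * a * x⁻¹ ∈ commutator X := by
      have : (commutator X).Normal := inferInstance
      exact this.conj_mem a ha x
    have h3 : ∀ r : Q, r ∈ fix Q (x * a * x⁻¹) ↔ x⁻¹ • r ∈ fix Q a := by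
      intro r
      rw [mem_fix, mem_fix, mul_smul, mul_smul]
      constructor
      · intro h
        have := congrArg (fun t => x⁻¹ • t) h
        simpa using this
      · intro h
        rw [h]; simp
    have hcard : Nat.card (fix Q (x * a * x⁻¹)) = Nat.card (fix Q a) := by
      refine Nat.card_congr ⟨fun r => ⟨x⁻¹ • r.1, (h3 _).mp r.2⟩,
        fun r => ⟨x • r.1, (h3 _).mpr (by simp)⟩, ?_, ?_⟩
      · intro r; simp
      · intro r; simp
    have hle := fix_le_or f h2 hfl hfr (hcomm a ha _ hb) (ha3 a ha)
      (hf1 _ (mul_mem ha hb))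
    have heq : fix Q a = fix Q (x * a * x⁻¹) := by
      rcases hle with h | h
      · exact AddSubgroup.eq_of_le_of_card_ge h (le_of_eq hcard)
      · exact (AddSubgroup.eq_of_le_of_card_ge h (le_of_eq hcard.symm)).symm
    rw [heq, h3]
    simpa using hq
  -- the action on the quotient
  let F := fix Q a
  have hsmul : ∀ (x : X), F ≤ F.comap (DistribMulAction.toAddMonoidHom Q x) :=
    fun x q hq => hinv x q hq
  letI act : MulAction X (Q ⧸ F) :=
    { smul := fun x => QuotientAddGroup.map F F (DistribMulAction.toAddMonoidHom Q x) (hsmul x)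
      one_smul := by
        intro q
        induction q using QuotientAddGroup.induction_on with
        | H q =>
          show QuotientAddGroup.mk ((1 : X) • q) = QuotientAddGroup.mk q
          rw [one_smul]
      mul_smul := by
        intro x y q
        induction q using QuotientAddGroup.induction_on with
        | H q =>
          show QuotientAddGroup.mk ((x * y) • q) = QuotientAddGroup.mk (x • y • q)
          rw [mul_smul] }
  have hcard : Nat.card (Q ⧸ F) ≤ 4 :=
    index_fix_le f h2 hfl hfr (hf1 a ha)
  obtain ⟨q, hq⟩ := hcon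
  apply hq
  have h3 : a • (QuotientAddGroup.mk q : Q ⧸ F) = QuotientAddGroup.mk q :=
    commutator_smul hX hcard a ha _
  have h4 : (QuotientAddGroup.mk (a • q) : Q ⧸ F) = QuotientAddGroup.mk q := h3
  rw [QuotientAddGroup.eq] at h4
  have h5 : a • (-(a • q) + q) = -(a • q) + q := h4
  have h6 : (-(a • q) + q) + a • (-(a • q) + q) + a • a • (-(a • q) + q) = 0 := by
    simp only [smul_add, smul_neg, ha3 a ha]
    abel
  have h7 := eq_zero_of_orbit h2 h5 h6
  have h8 : q = a • q := by
    have : a • q + (-(a • q) + q) = q := by abel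
    rw [h7, add_zero] at this
    exact this.symm
  exact h8.symm

end

end Cfsg.Agent.H451.QuadForm
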