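import Mathlib
import Cfsg.Agent.Lib.FrattiniPGroup
import Cfsg.Agent.OddOrderLocal.FittingHall
import Cfsg.Agent.H451.QuadAB
import Cfsg.Agent.H451.QuadForm

/-!
# A `3`-group `X` with `[X, X]` abelian and quadratic, in characteristic three

Let a finite group `Γ` act faithfully on an elementary abelian `3`-group `W` (written additively), let `C` be a
`2`-subgroup normalized by a `3`-subgroup `X`, and let `A = [X, X]` be abelian, with
`a² + a + 1 = 0` on `W` for `a ∈ A` and `(a - 1)(x² + x + 1) = 0` on `W` for `a ∈ A`, `x ∈ X`.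
Then `A` centralizes `C`.
-/

set_option autoImplicit false
set_option linter.style.haveILetI false

namespace Cfsg.Agent.H451.QuadThree

open Subgroup

universe u v

/-! ### Generalities -/

section general

variable {Γ : Type u} [Group Γ]

/-- the action on an abelian section, packaged -/
theorem exists_quot (C N X : Subgroup Γ) (hN : ∀ c ∈ C, ∀ n ∈ N, c * n * c⁻¹ ∈ N)
    (hcomm : ∀ c ∈ C, ∀ d ∈ C, c * d * c⁻¹ * d⁻¹ ∈ N) (hXC : ∀ x ∈ X, ∀ c ∈ C, x * c * x⁻¹ ∈ C)
    (hXN : ∀ x ∈ X, ∀ n ∈ N, x * n * x⁻¹ ∈ N) :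
    ∃ (Q : Type u) (_ : AddCommGroup Q) (_ : DistribMulAction X Q) (π : C → Q),
      Function.Surjective π ∧ (∀ c d, π (c * d) = π c + π d) ∧
      (∀ c d : C, π c = π d ↔ (c : Γ)⁻¹ * d ∈ N) ∧
      ∀ (x : X) (c : C) (h : (x : Γ) * c * (x : Γ)⁻¹ ∈ C), x • π c = π ⟨x * c * (x : Γ)⁻¹, h⟩ := by
  let M : Subgroup C := N.subgroupOf C
  haveI hMn : M.Normal := by
    refine ⟨fun n hn c => ?_⟩
    rw [mem_subgroupOf] at hn ⊢
    exact hN c c.2 n hn
  letI gC : CommGroup (C ⧸ M) :=
    { (inferInstance : Group (C ⧸ M)) with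
      mul_comm := by
        intro p q
        induction p using QuotientGroup.induction_on with
        | H c =>
          induction q using QuotientGroup.induction_on with
          | H d =>
            rw [← QuotientGroup.mk_mul, ← QuotientGroup.mk_mul, QuotientGroup.eq, mem_subgroupOf]
            have h := hcomm (d : Γ)⁻¹ (inv_mem d.2) (c : Γ)⁻¹ (inv_mem c.2)
            have e : (((c * d)⁻¹ * (d * c) : C) : Γ) =
                (d : Γ)⁻¹ * (c : Γ)⁻¹ * ((d : Γ)⁻¹)⁻¹ * ((c : Γ)⁻¹)⁻¹ := by
              push_cast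
              group
            rw [e]
            exact h }
  -- conjugation on `C`
  let cj : X → (C →* C) := fun x =>
    { toFun := fun c => ⟨x * c * (x : Γ)⁻¹, hXC x x.2 c c.2⟩
      map_one' := by apply Subtype.ext; simp
      map_mul' := by
        intro c d
        apply Subtype.ext
        show (x : Γ) * ((c : Γ) * d) * (x : Γ)⁻¹ =
          (x * c * (x : Γ)⁻¹) * (x * d * (x : Γ)⁻¹)
        group }
  have hcj : ∀ x, M ≤ M.comap (cj x) := by
    intro x n hn
    rw [mem_comap, mem_subgroupOf]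
    exact hXN x x.2 n hn
  letI act : DistribMulAction X (Additive (C ⧸ M)) :=
    { smul := fun x q => Additive.ofMul (QuotientGroup.map M M (cj x) (hcj x) q.toMul)
      one_smul := by
        intro q
        change Additive.ofMul (QuotientGroup.map M M (cj 1) (hcj 1) q.toMul) = q
        obtain ⟨c, hc⟩ := QuotientGroup.mk_surjective q.toMul
        rw [← hc]
        show Additive.ofMul (QuotientGroup.mk (cj 1 c) : C ⧸ M) = q
        have : cj 1 c = c := by
          apply Subtype.ext
          show ((1 : X) : Γ) * c * ((1 : X) : Γ)⁻¹ = c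
          simp
        rw [this, hc]; rfl
      mul_smul := by
        intro x y q
        change Additive.ofMul (QuotientGroup.map M M (cj (x * y)) (hcj (x * y)) q.toMul) =
          Additive.ofMul (QuotientGroup.map M M (cj x) (hcj x)
            (QuotientGroup.map M M (cj y) (hcj y) q.toMul))
        obtain ⟨c, hc⟩ := QuotientGroup.mk_surjective q.toMul
        rw [← hc]
        show Additive.ofMul (QuotientGroup.mk (cj (x * y) c) : C ⧸ M) =
          Additive.ofMul (QuotientGroup.mk (cj x (cj y c)) : C ⧸ M)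
        have : cj (x * y) c = cj x (cj y c) := by
          apply Subtype.ext
          show ((x * y : X) : Γ) * c * ((x * y : X) : Γ)⁻¹ =
            (x : Γ) * ((y : Γ) * c * (y : Γ)⁻¹) * (x : Γ)⁻¹
          push_cast
          group
        rw [this]
      smul_zero := by
        intro x
        change Additive.ofMul (QuotientGroup.map M M (cj x) (hcj x) 1) = 0
        rw [map_one]; rfl
      smul_add := by
        intro x p q
        change Additive.ofMul (QuotientGroup.map M M (cj x) (hcj x) (p.toMul * q.toMul)) =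
          Additive.ofMul (QuotientGroup.map M M (cj x) (hcj x) p.toMul) +
          Additive.ofMul (QuotientGroup.map M M (cj x) (hcj x) q.toMul)
        rw [map_mul]; rfl }
  refine ⟨Additive (C ⧸ M), inferInstance, act,
    fun c => Additive.ofMul (QuotientGroup.mk c : C ⧸ M), ?_, ?_, ?_, ?_⟩
  · intro q
    obtain ⟨c, hc⟩ := QuotientGroup.mk_surjective q.toMul
    refine ⟨c, ?_⟩
    show Additive.ofMul (QuotientGroup.mk c : C ⧸ M) = q
    rw [hc]; rfl
  · intro c d
    rfl
  · intro c d
    rw [Additive.ofMul.apply_eq_iff_eq, QuotientGroup.eq, mem_subgroupOf]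
    rfl
  · intro x c h
    rfl

/-- `a³ = 1`, `a` commutes with `[a, c]`, which has two-power order: then `a` commutes with `c` -/
theorem commute_of_cube {a c : Γ} (ha : a * a * a = 1) (hd : a * (a * c * a⁻¹ * c⁻¹) = (a * c * a⁻¹ * c⁻¹) * a)
    {k : ℕ} (hk : (a * c * a⁻¹ * c⁻¹) ^ (2 ^ k) = 1) : a * c = c * a := by
  set d := a * c * a⁻¹ * c⁻¹ with hdd
  have h1 : a * c * a⁻¹ = d * c := by rw [hdd]; group
  have h2 : a * (a * c * a⁻¹) * a⁻¹ = d * (d * c) := by
    rw [h1]
    calc a * (d * c) * a⁻¹ = (a * d) * c * a⁻¹ := by group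
      _ = d * (a * c * a⁻¹) := by rw [hd]; group
      _ = d * (d * c) := by rw [h1]
  have h3 : a * (a * (a * c * a⁻¹) * a⁻¹) * a⁻¹ = d * (d * (d * c)) := by
    rw [h2]
    calc a * (d * (d * c)) * a⁻¹ = (a * d) * d * c * a⁻¹ := by group
      _ = (d * a) * d * c * a⁻¹ := by rw [hd]
      _ = d * (a * d) * c * a⁻¹ := by group
      _ = d * (d * a) * c * a⁻¹ := by rw [hd]
      _ = d * d * (a * c * a⁻¹) := by group
      _ = d * d * (d * c) := by rw [h1]
      _ = d * (d * (d * c)) := by group
  have h4 : a * (a * (a * c * a⁻¹) * a⁻¹) * a⁻¹ = c := by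
    have : a * (a * (a * c * a⁻¹) * a⁻¹) * a⁻¹ = (a * a * a) * c * (a * a * a)⁻¹ := by group
    rw [this, ha]; simp
  rw [h4] at h3
  have h5 : d ^ 3 = 1 := by
    have : d * (d * (d * c)) = d ^ 3 * c := by
      rw [pow_succ, pow_two]; simp only [mul_assoc]
    rw [this] at h3
    exact (mul_eq_right.mp h3.symm)
  have h6 : orderOf d ∣ 3 := orderOf_dvd_of_pow_eq_one h5
  have h7 : orderOf d ∣ 2 ^ k := orderOf_dvd_of_pow_eq_one hk
  have h8 : orderOf d = 1 :=
    Nat.Coprime.eq_one_of_dvd (Nat.Coprime.coprime_dvd_left h6 (Nat.Coprime.pow_right k (by decide))) h7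
  have h9 : d = 1 := orderOf_eq_one_iff.mp h8
  rw [h9, one_mul] at h1
  calc a * c = (a * c * a⁻¹) * a := by group
    _ = c * a := by rw [h1]

theorem le_normalizer_of_conj [Finite Γ] {X D : Subgroup Γ} (h : ∀ x ∈ X, ∀ d ∈ D, x * d * x⁻¹ ∈ D) :
    X ≤ normalizer (D : Set Γ) := by
  intro x hx
  rw [mem_normalizer_iff]
  intro d
  constructor
  · exact fun hd => h x hx d hd
  · intro hd
    have := h x⁻¹ (inv_mem hx) _ hd
    have e : x⁻¹ * (x * d * x⁻¹) * x⁻¹⁻¹ = d := by group
    rwa [e] at this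

theorem conj_of_le_normalizer {X D : Subgroup Γ} (h : X ≤ normalizer (D : Set Γ)) :
    ∀ x ∈ X, ∀ d ∈ D, x * d * x⁻¹ ∈ D :=
  fun x hx d hd => (mem_normalizer_iff.mp (h hx) d).mp hd

end general

/-! ### Operators on an invariant subgroup -/

section operators

variable {Γ : Type u} {W : Type v} [Group Γ] [AddCommGroup W] [DistribMulAction Γ W]

/-- the operator of `g` on the invariant subgroup `M` -/
def restr (M : AddSubgroup W) (g : Γ) (h : ∀ m ∈ M, g • m ∈ M) : AddMonoid.End M where
  toFun m := ⟨g • (m : W), h m m.2⟩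
  map_zero' := Subtype.ext (smul_zero g)
  map_add' x y := Subtype.ext (smul_add g (x : W) (y : W))

theorem restr_apply (M : AddSubgroup W) (g : Γ) (h : ∀ m ∈ M, g • m ∈ M) (m : M) :
    ((restr M g h m : M) : W) = g • (m : W) := rfl

theorem restr_pow (M : AddSubgroup W) (g : Γ) (h : ∀ m ∈ M, g • m ∈ M) (n : ℕ) (m : M) :
    (((restr M g h) ^ n : AddMonoid.End M) m : W) = g ^ n • (m : W) := by
  induction n with
  | zero => simp
  | succ n ih =>
    rw [pow_succ', pow_succ', mul_smul, ← ih]
    rfl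

/-- application of the ring lemma -/
theorem smul_eq_of_commute (h3 : ∀ w : W, w + w + w = 0) (M : AddSubgroup W) {a c : Γ}
    (ha3 : a * a * a = 1) (ha : ∀ m ∈ M, a • m ∈ M) (hc : ∀ m ∈ M, c • m ∈ M)
    (hq : ∀ m ∈ M, a • a • m + a • m + m = 0)
    (hcomm : ∀ m ∈ M, c • (a * c * a⁻¹) • m = (a * c * a⁻¹) • c • m)
    {k : ℕ} (hk : c ^ (2 ^ k) = 1) : ∀ m ∈ M, c • m = (a * c * a⁻¹) • m := by
  have hainv : a⁻¹ = a * a := by
    have : a * a * a = 1 := ha3
    exact (eq_inv_of_mul_eq_one_left this).symm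
  have hai : ∀ m ∈ M, a⁻¹ • m ∈ M := by
    intro m hm
    rw [hainv, mul_smul]
    exact ha _ (ha _ hm)
  set b := a * c * a⁻¹ with hb
  set g := a * b * a⁻¹ with hg
  have hbM : ∀ m ∈ M, b • m ∈ M := by
    intro m hm
    rw [hb, mul_smul, mul_smul]
    exact ha _ (hc _ (hai _ hm))
  have hgM : ∀ m ∈ M, g • m ∈ M := by
    intro m hm
    rw [hg, mul_smul, mul_smul]
    exact ha _ (hbM _ (hai _ hm))
  have hag : a * g * a⁻¹ = c := by
    rw [hg, hb]
    have : a * (a * (a * c * a⁻¹) * a⁻¹) * a⁻¹ = (a * a * a) * c * (a * a * a)⁻¹ := by group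
    rw [this, ha3]; simp
  -- conjugating a commutation
  have conj : ∀ {x y : Γ}, (∀ m ∈ M, x • y • m = y • x • m) →
      ∀ m ∈ M, (a * x * a⁻¹) • (a * y * a⁻¹) • m = (a * y * a⁻¹) • (a * x * a⁻¹) • m := by
    intro x y hxy m hm
    have h1 := hxy (a⁻¹ • m) (hai m hm)
    have e1 : (a * x * a⁻¹) • (a * y * a⁻¹) • m = a • x • y • a⁻¹ • m := by
      rw [← mul_smul, ← mul_smul, ← mul_smul, ← mul_smul]
      congr 1
      group
    have e2 : (a * y * a⁻¹) • (a * x * a⁻¹) • m = a • y • x • a⁻¹ • m := by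
      rw [← mul_smul, ← mul_smul, ← mul_smul, ← mul_smul]
      congr 1
      group
    rw [e1, e2, h1]
  have hbg : ∀ m ∈ M, b • g • m = g • b • m := conj hcomm
  have hgc : ∀ m ∈ M, g • c • m = c • g • m := by
    have := conj hbg
    rw [hag] at this
    exact this
  have hbk : b ^ (2 ^ k) = 1 := by
    rw [hb, conj_pow, hk]; simp
  have hgk : g ^ (2 ^ k) = 1 := by
    rw [hg, conj_pow, hbk]; simp
  have hpow : ∀ (x : Γ) (hx : ∀ m ∈ M, x • m ∈ M), x ^ (2 ^ k) = 1 →
      (restr M x hx) ^ (2 ^ k) = 1 := by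
    intro x hx h
    apply AddMonoidHom.ext
    intro m
    apply Subtype.ext
    exact (restr_pow M x hx (2 ^ k) m).trans (by rw [h, one_smul]; rfl)
  have key : restr M c hc = restr M b hbM := by
    refine QuadAB.eq_of_quadratic (R := AddMonoid.End M) (a := restr M a ha)
      (γ := restr M g hgM) ?_ ?_ ?_ ?_ ?_ ?_ ?_ ?_ (hpow c hc hk) (hpow b hbM hbk)
      (hpow g hgM hgk)
    · apply AddMonoidHom.ext
      intro m
      apply Subtype.ext
      have e1 : (3 : AddMonoid.End M) = 1 + 1 + 1 := by norm_num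
      rw [e1]
      exact h3 m
    · apply AddMonoidHom.ext
      intro m
      exact Subtype.ext (hcomm m m.2)
    · apply AddMonoidHom.ext
      intro m
      exact Subtype.ext (hbg m m.2)
    · apply AddMonoidHom.ext
      intro m
      exact Subtype.ext (hgc m m.2).symm
    · apply AddMonoidHom.ext
      intro m
      apply Subtype.ext
      show a • c • (m : W) = b • a • (m : W)
      rw [← mul_smul, ← mul_smul, hb]
      congr 1
      group
    · apply AddMonoidHom.ext
      intro m
      apply Subtype.ext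
      show a • b • (m : W) = g • a • (m : W)
      rw [← mul_smul, ← mul_smul, hg]
      congr 1
      group
    · apply AddMonoidHom.ext
      intro m
      apply Subtype.ext
      show a • g • (m : W) = c • a • (m : W)
      rw [← mul_smul, ← mul_smul, ← hag]
      congr 1
      group
    · apply AddMonoidHom.ext
      intro m
      apply Subtype.ext
      exact hq m m.2
  intro m hm
  have := congrArg (fun e : AddMonoid.End M => ((e ⟨m, hm⟩ : M) : W)) key
  exact this

end operators

end Cfsg.Agent.H451.QuadThree
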